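import Groth.Agent.LinkGr.Transport
import Mathlib.RingTheory.Spectrum.Prime.FreeLocus
import Mathlib.LinearAlgebra.Matrix.Adjugate
import Mathlib.LinearAlgebra.TensorProduct.Pi
import Mathlib.LinearAlgebra.Matrix.ToLinearEquiv

/-!
Charts of linked Grassmannians at points generated by transported vectors.
-/

set_option autoImplicit false
set_option backward.isDefEq.respectTransparency false
universe u

open scoped TensorProduct
open Groth.Agent.Grass5 (bc bc_smul map_eq_span bc_mem_span)

namespace Groth.Agent.LinkGr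

section Split

variable {A : Type u} [CommRing A] {N P : Type u} [AddCommGroup N] [Module A N] [AddCommGroup P] [Module A P]

/-- A surjection with a section splits. -/
def splitEquiv (q : N →ₗ[A] P) (σ : P →ₗ[A] N) (h : ∀ y, q (σ y) = y) : N ≃ₗ[A] LinearMap.ker q × P where
  toFun x := (⟨x - σ (q x), by simp [LinearMap.mem_ker, h]⟩, q x)
  map_add' x y := by ext <;> simp; abel
  map_smul' a x := by ext <;> simp [smul_sub]
  invFun z := z.1.1 + σ z.2
  left_inv x := by simp
  right_inv z := by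
    have hz : q z.1.1 = 0 := z.1.2
    ext <;> simp [h, hz]

theorem exists_splitEquiv [Module.Projective A P] (q : N →ₗ[A] P) (hq : Function.Surjective q) :
    Nonempty (N ≃ₗ[A] LinearMap.ker q × P) := by
  obtain ⟨σ, hσ⟩ := Module.projective_lifting_property q LinearMap.id hq
  exact ⟨splitEquiv q σ fun y => LinearMap.congr_fun hσ y⟩

theorem finite_of_equiv_prod {Q : Type u} [AddCommGroup Q] [Module A Q] [Module.Finite A N]
    (e : N ≃ₗ[A] P × Q) : Module.Finite A P :=
  Module.Finite.of_surjective ((LinearMap.fst A P Q).comp (e : N →ₗ[A] P × Q))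
    (fun x => ⟨e.symm (x, 0), by simp⟩)

theorem projective_of_equiv_prod {Q : Type u} [AddCommGroup Q] [Module A Q] [Module.Projective A N]
    (e : N ≃ₗ[A] P × Q) : Module.Projective A P :=
  Module.Projective.of_split ((e.symm : P × Q →ₗ[A] N).comp (LinearMap.inl A P Q))
    ((LinearMap.fst A P Q).comp (e : N →ₗ[A] P × Q)) (LinearMap.ext fun x => by simp)

end Split

variable {R : Type u} [CommRing R] {d r n : ℕ}
variable {A : Type u} [CommRing A] [Algebra R A] {C : Type u} [CommRing C] [Algebra R C]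

theorem rankAtStalk_space (p : PrimeSpectrum A) : Module.rankAtStalk (R := A) (A ⊗[R] (Fin d → R)) p = d := by
  have : Nontrivial A := ⟨0, 1, fun h => p.2.ne_top ((Ideal.eq_top_iff_one _).2 (h ▸ p.asIdeal.zero_mem))⟩
  rw [Module.rankAtStalk_eq_of_equiv (TensorProduct.piScalarRight R A A (Fin d)),
    Module.rankAtStalk_eq_finrank_of_free]
  simp

theorem point_facts (hrd : r ≤ d) (V : Module.Grassmannian A (A ⊗[R] (Fin d → R)) (d - r)) :
    Module.Finite A V.toSubmodule ∧ Module.Projective A V.toSubmodule ∧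
      ∀ p, Module.rankAtStalk (R := A) V.toSubmodule p = r := by
  have hf := V.finite_quotient
  have hp := V.projective_quotient
  obtain ⟨e⟩ := exists_splitEquiv V.toSubmodule.mkQ V.toSubmodule.mkQ_surjective
  let e' := e.trans (LinearEquiv.prodCongr (LinearEquiv.ofEq _ _ V.toSubmodule.ker_mkQ) (LinearEquiv.refl A _))
  have h1 : Module.Finite A V.toSubmodule := finite_of_equiv_prod (P := ↥V.toSubmodule) e'
  have h2 : Module.Projective A V.toSubmodule := projective_of_equiv_prod (P := ↥V.toSubmodule) e'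
  refine ⟨h1, h2, fun p => ?_⟩
  have h := congrFun (Module.rankAtStalk_eq_of_equiv (M := A ⊗[R] (Fin d → R))
    (N := ↥V.toSubmodule × ((A ⊗[R] (Fin d → R)) ⧸ V.toSubmodule)) e') p
  rw [rankAtStalk_space, Module.rankAtStalk_prod, Pi.add_apply, V.rankAtStalk_eq p] at h
  omega

theorem injective_of_surjective_rank {N : Type u} [AddCommGroup N] [Module A N] [Module.Finite A N]
    [Module.Projective A N] (h3 : ∀ p, Module.rankAtStalk (R := A) N p = r)
    (q : N →ₗ[A] (Fin r → A)) (hq : Function.Surjective q) : Function.Injective q := by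
  obtain ⟨e⟩ := exists_splitEquiv q hq
  have := finite_of_equiv_prod e
  have := projective_of_equiv_prod e
  have hK : Subsingleton (LinearMap.ker q) := by
    refine (Module.rankAtStalk_eq_zero_iff_subsingleton (R := A)).1 (funext fun p => ?_)
    have : Nontrivial A := ⟨0, 1, fun h => p.2.ne_top ((Ideal.eq_top_iff_one _).2 (h ▸ p.asIdeal.zero_mem))⟩
    have h := congrFun (Module.rankAtStalk_eq_of_equiv e) p
    rw [h3, Module.rankAtStalk_prod, Pi.add_apply,
      Module.rankAtStalk_eq_finrank_of_free (R := A) (M := Fin r → A)] at h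
    simp at h ⊢
    omega
  exact LinearMap.ker_eq_bot.1 (Submodule.subsingleton_iff_eq_bot.1 hK)

theorem injective_of_surjective_point (hrd : r ≤ d) (V : Module.Grassmannian A (A ⊗[R] (Fin d → R)) (d - r))
    (q : V.toSubmodule →ₗ[A] (Fin r → A)) (hq : Function.Surjective q) : Function.Injective q := by
  obtain ⟨h1, h2, h3⟩ := point_facts hrd V
  exact injective_of_surjective_rank (N := ↥V.toSubmodule) h3 q hq

variable (A) in
/-- Coordinates. -/
noncomputable def crd : A ⊗[R] (Fin d → R) ≃ₗ[A] (Fin d → A) := TensorProduct.piScalarRight R A A (Fin d)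

theorem crd_bc (φ : A →ₐ[R] C) (z : A ⊗[R] (Fin d → R)) (k : Fin d) : crd C (bc φ z) k = φ (crd A z k) := by
  induction z using TensorProduct.induction_on with
  | zero => simp
  | tmul a m => simp [crd, TensorProduct.piScalarRight_apply, TensorProduct.piScalarRightHom_tmul]
  | add x y hx hy => simp [hx, hy]

/-- The combinatorial data of a chart. -/
structure ChartData (d r n : ℕ) : Type where
  c : Fin r → Fin (n + 1)
  σ : Fin (n + 1) → Fin r → Fin d
  a : Fin r → Fin r
  σ_inj : ∀ i, Function.Injective (σ i)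

variable (D : ChartData d r n)

theorem ChartData.le (D : ChartData d r n) : r ≤ d := by
  simpa using Fintype.card_le_of_injective _ (D.σ_inj 0)

variable (A) in
/-- The coordinate projection at a position. -/
noncomputable def proj (i : Fin (n + 1)) : A ⊗[R] (Fin d → R) →ₗ[A] (Fin r → A) :=
  (LinearMap.funLeft A A (D.σ i)).comp (crd A (R := R) (d := d)).toLinearMap

theorem proj_apply (i : Fin (n + 1)) (z : A ⊗[R] (Fin d → R)) (l : Fin r) :
    proj A D i z l = crd A z (D.σ i l) := rfl

theorem proj_bc (φ : A →ₐ[R] C) (i : Fin (n + 1)) (z : A ⊗[R] (Fin d → R)) :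
    proj C D i (bc φ z) = φ ∘ proj A D i z := funext fun _ => crd_bc φ z _

/-- The matrix of coordinates of a family at a position. -/
noncomputable def mat (i : Fin (n + 1)) (v : Fin r → A ⊗[R] (Fin d → R)) : Matrix (Fin r) (Fin r) A :=
  Matrix.of fun l j => proj A D i (v j) l

theorem mat_bc (φ : A →ₐ[R] C) (i : Fin (n + 1)) (v : Fin r → A ⊗[R] (Fin d → R)) :
    mat D i (fun j => bc φ (v j)) = (mat D i v).map φ := by
  ext l j
  simp [mat, proj_bc]

theorem det_mat_bc (φ : A →ₐ[R] C) (i : Fin (n + 1)) (v : Fin r → A ⊗[R] (Fin d → R)) :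
    (mat D i fun j => bc φ (v j)).det = φ (mat D i v).det := by
  rw [mat_bc]
  exact ((φ : A →+* C).map_det _).symm

theorem proj_sum (i : Fin (n + 1)) (v : Fin r → A ⊗[R] (Fin d → R)) (x : Fin r → A) :
    proj A D i (∑ l, x l • v l) = (mat D i v).mulVec x := by
  ext k
  simp [mat, Matrix.mulVec, dotProduct, map_sum, mul_comm]

variable (f g : Fin n → ((Fin d → R) →ₗ[R] (Fin d → R)))

/-- Normalised generators. -/
structure IsGen (V : Fin (n + 1) → Module.Grassmannian A (A ⊗[R] (Fin d → R)) (d - r))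
    (w : Fin r → A ⊗[R] (Fin d → R)) : Prop where
  mem : ∀ j, w j ∈ (V (D.c j)).toSubmodule
  norm : ∀ j, proj A D (D.c j) (w j) = Pi.single (D.a j) 1
  det : ∀ i, IsUnit (mat D i (trans f g D.c w i)).det

/-- The chart condition. -/
def Cond (V : Fin (n + 1) → Module.Grassmannian A (A ⊗[R] (Fin d → R)) (d - r)) : Prop :=
  ∃ w, IsGen D f g V w

variable {f g}

theorem proj_injOn {V : Fin (n + 1) → Module.Grassmannian A (A ⊗[R] (Fin d → R)) (d - r)} (i : Fin (n + 1))
    {v : Fin r → A ⊗[R] (Fin d → R)} (hv : ∀ j, v j ∈ (V i).toSubmodule) (hdet : IsUnit (mat D i v).det) :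
    Function.Injective ((proj A D i).comp (V i).toSubmodule.subtype) := by
  refine injective_of_surjective_point D.le (V i) _ fun y => ?_
  refine ⟨⟨∑ l, ((mat D i v)⁻¹.mulVec y) l • v l, sum_mem fun l _ => Submodule.smul_mem _ _ (hv l)⟩, ?_⟩
  show proj A D i (∑ l, ((mat D i v)⁻¹.mulVec y) l • v l) = y
  rw [proj_sum, Matrix.mulVec_mulVec, Matrix.mul_nonsing_inv _ hdet, Matrix.one_mulVec]

variable {V : Fin (n + 1) → Module.Grassmannian A (A ⊗[R] (Fin d → R)) (d - r)}

theorem trans_mem_point (hV : V ∈ W4c1limliniiii.LGPoints R d r n f g A) {w : Fin r → A ⊗[R] (Fin d → R)}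
    (hw : ∀ j, w j ∈ (V (D.c j)).toSubmodule) (i : Fin (n + 1)) (j : Fin r) :
    trans f g D.c w i j ∈ (V i).toSubmodule :=
  trans_mem (V := fun i => (V i).toSubmodule) hV hw i j

theorem IsGen.injOn (hV : V ∈ W4c1limliniiii.LGPoints R d r n f g A) {w : Fin r → A ⊗[R] (Fin d → R)}
    (hw : IsGen D f g V w) (i : Fin (n + 1)) {x y : A ⊗[R] (Fin d → R)}
    (hx : x ∈ (V i).toSubmodule) (hy : y ∈ (V i).toSubmodule) (h : proj A D i x = proj A D i y) : x = y :=
  congrArg Subtype.val (proj_injOn D i (trans_mem_point D hV hw.mem i) (hw.det i) (a₁ := ⟨x, hx⟩) (a₂ := ⟨y, hy⟩) h)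

theorem IsGen.unique (hV : V ∈ W4c1limliniiii.LGPoints R d r n f g A) {w w' : Fin r → A ⊗[R] (Fin d → R)}
    (hw : IsGen D f g V w) (hm : ∀ j, w' j ∈ (V (D.c j)).toSubmodule)
    (hn : ∀ j, proj A D (D.c j) (w' j) = Pi.single (D.a j) 1) : w' = w :=
  funext fun j => hw.injOn D hV _ (hm j) (hw.mem j) ((hn j).trans (hw.norm j).symm)

theorem IsGen.span_eq (hV : V ∈ W4c1limliniiii.LGPoints R d r n f g A) {w : Fin r → A ⊗[R] (Fin d → R)}
    (hw : IsGen D f g V w) (i : Fin (n + 1)) :
    (V i).toSubmodule = Submodule.span A (Set.range (trans f g D.c w i)) := by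
  refine le_antisymm (fun x hx => ?_)
    (Submodule.span_le.2 (by rintro _ ⟨j, rfl⟩; exact trans_mem_point D hV hw.mem i j))
  let M := mat D i (trans f g D.c w i)
  let co := M⁻¹.mulVec (proj A D i x)
  have hx' : x = ∑ l, co l • trans f g D.c w i l := by
    refine hw.injOn D hV i hx (sum_mem fun l _ => Submodule.smul_mem _ _ (trans_mem_point D hV hw.mem i l)) ?_
    rw [proj_sum, Matrix.mulVec_mulVec, Matrix.mul_nonsing_inv _ (hw.det i), Matrix.one_mulVec]
  rw [hx']
  exact sum_mem fun l _ => Submodule.smul_mem _ _ (Submodule.subset_span ⟨l, rfl⟩)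

theorem mem_map_of_mem (φ : A →ₐ[R] C) {V : Module.Grassmannian A (A ⊗[R] (Fin d → R)) (d - r)}
    {z : A ⊗[R] (Fin d → R)} (hz : z ∈ V.toSubmodule) : bc φ z ∈ (Module.Grassmannian.map φ V).toSubmodule := by
  rw [map_eq_span]
  exact Submodule.subset_span ⟨z, hz, rfl⟩

theorem IsGen.map (φ : A →ₐ[R] C) {w : Fin r → A ⊗[R] (Fin d → R)} (hw : IsGen D f g V w) :
    IsGen D f g (fun i => Module.Grassmannian.map φ (V i)) fun j => bc φ (w j) where
  mem j := mem_map_of_mem φ (hw.mem j)
  norm j := by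
    rw [proj_bc, hw.norm]
    ext l
    by_cases h : l = D.a j
    · subst h; simp
    · simp [h]
  det i := by
    have h : trans f g D.c (fun j => bc φ (w j)) i = fun j => bc φ (trans f g D.c w i j) :=
      funext fun j => (trans_map φ D.c w i j).symm
    rw [h, det_mat_bc]
    exact (hw.det i).map φ

theorem mem_points_map (hV : V ∈ W4c1limliniiii.LGPoints R d r n f g A) (φ : A →ₐ[R] C) :
    (fun i => Module.Grassmannian.map φ (V i)) ∈ W4c1limliniiii.LGPoints R d r n f g C := by
  intro i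
  simp only [map_eq_span, Submodule.map_span_le]
  constructor
  · rintro _ ⟨z, hz, rfl⟩
    rw [← Grass5.bc_baseChange]
    exact Submodule.subset_span ⟨_, (hV i).1 ⟨z, hz, rfl⟩, rfl⟩
  · rintro _ ⟨z, hz, rfl⟩
    rw [← Grass5.bc_baseChange]
    exact Submodule.subset_span ⟨_, (hV i).2 ⟨z, hz, rfl⟩, rfl⟩

variable (f g)

/-- The scaled generators attached to a choice of vectors at every position. -/
noncomputable def adjGen (v : Fin (n + 1) → Fin r → A ⊗[R] (Fin d → R)) (j : Fin r) : A ⊗[R] (Fin d → R) :=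
  ∑ l, (mat D (D.c j) (v (D.c j))).adjugate l (D.a j) • v (D.c j) l

/-- The scalar whose non-vanishing gives the chart condition. -/
noncomputable def tot (v : Fin (n + 1) → Fin r → A ⊗[R] (Fin d → R)) : A :=
  (∏ i, (mat D i (v i)).det) * ∏ i, (mat D i (trans f g D.c (adjGen D v) i)).det

theorem proj_adjGen (v : Fin (n + 1) → Fin r → A ⊗[R] (Fin d → R)) (j : Fin r) :
    proj A D (D.c j) (adjGen D v j) = Pi.single (D.a j) (mat D (D.c j) (v (D.c j))).det := by
  rw [adjGen, proj_sum]
  ext k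
  have h := congrFun (congrFun (Matrix.mul_adjugate (mat D (D.c j) (v (D.c j)))) k) (D.a j)
  rw [Matrix.smul_apply, Matrix.one_apply] at h
  rw [Pi.single_apply]
  simpa [Matrix.mul_apply, Matrix.mulVec, dotProduct] using h

theorem bc_adjGen (φ : A →ₐ[R] C) (v : Fin (n + 1) → Fin r → A ⊗[R] (Fin d → R)) (j : Fin r) :
    bc φ (adjGen D v j) = adjGen D (fun i l => bc φ (v i l)) j := by
  simp only [adjGen, map_sum, bc_smul, mat_bc]
  refine Finset.sum_congr rfl fun l _ => ?_
  rw [show (mat D (D.c j) (v (D.c j))).map φ = (φ : A →+* C).mapMatrix (mat D (D.c j) (v (D.c j))) from rfl,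
    ← RingHom.map_adjugate]
  rfl

theorem tot_bc (φ : A →ₐ[R] C) (v : Fin (n + 1) → Fin r → A ⊗[R] (Fin d → R)) :
    tot D f g (fun i l => bc φ (v i l)) = φ (tot D f g v) := by
  simp only [tot, map_mul, map_prod]
  congr 1
  · exact Finset.prod_congr rfl fun i _ => det_mat_bc D φ i (v i)
  · refine Finset.prod_congr rfl fun i _ => ?_
    rw [← det_mat_bc D φ i]
    congr 2
    funext j
    rw [trans_map]
    congr 1
    exact funext fun l => (bc_adjGen D φ v l).symm

/-- The scalar is a unit, so the chart condition holds. -/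
theorem cond_of_isUnit_tot (v : Fin (n + 1) → Fin r → A ⊗[R] (Fin d → R))
    (hv : ∀ i l, v i l ∈ (V i).toSubmodule) (h : IsUnit (tot D f g v)) : Cond D f g V := by
  have hδ : ∀ i, IsUnit (mat D i (v i)).det := fun i =>
    IsUnit.prod_univ_iff.1 (isUnit_of_mul_isUnit_left h) i
  let δ : Fin r → A := fun j => ((hδ (D.c j)).unit⁻¹ : Aˣ)
  refine ⟨fun j => δ j • adjGen D v j, fun j => ?_, fun j => ?_, fun i => ?_⟩
  · exact Submodule.smul_mem _ _ (sum_mem fun l _ => Submodule.smul_mem _ _ (hv _ l))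
  · rw [map_smul, proj_adjGen, ← Pi.single_smul', smul_eq_mul, IsUnit.val_inv_mul]
  · have h1 : mat D i (trans f g D.c (fun j => δ j • adjGen D v j) i) =
        Matrix.of fun l j => δ j * mat D i (trans f g D.c (adjGen D v) i) l j := by
      ext l j
      simp [mat, trans]
    rw [h1, Matrix.det_mul_row]
    exact (IsUnit.prod_univ_iff.2 fun j => ((hδ (D.c j)).unit⁻¹).isUnit).mul
      (IsUnit.prod_univ_iff.1 (isUnit_of_mul_isUnit_right h) i)

variable {f g}

theorem IsGen.isUnit_tot {K : Type u} [Field K] [Algebra R K]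
    {V : Fin (n + 1) → Module.Grassmannian K (K ⊗[R] (Fin d → R)) (d - r)}
    (hV : V ∈ W4c1limliniiii.LGPoints R d r n f g K) {w : Fin r → K ⊗[R] (Fin d → R)} (hw : IsGen D f g V w)
    (v : Fin (n + 1) → Fin r → K ⊗[R] (Fin d → R)) (hv : ∀ i l, v i l ∈ (V i).toSubmodule)
    (hd : ∀ i, (mat D i (v i)).det ≠ 0) : IsUnit (tot D f g v) := by
  let δ : Fin r → K := fun j => (mat D (D.c j) (v (D.c j))).det
  have ha : adjGen D v = fun j => δ j • w j := funext fun j =>
    hw.injOn D hV _ (sum_mem fun l _ => Submodule.smul_mem _ _ (hv _ l)) (Submodule.smul_mem _ _ (hw.mem j))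
      (by rw [proj_adjGen, map_smul, hw.norm, ← Pi.single_smul', smul_eq_mul, mul_one])
  refine IsUnit.mul (IsUnit.prod_univ_iff.2 fun i => (hd i).isUnit) (IsUnit.prod_univ_iff.2 fun i => ?_)
  have h1 : mat D i (trans f g D.c (adjGen D v) i) =
      Matrix.of fun l j => δ j * mat D i (trans f g D.c w i) l j := by
    ext l j
    simp [mat, trans, ha]
  rw [h1, Matrix.det_mul_row]
  exact (IsUnit.prod_univ_iff.2 fun j => (hd _).isUnit).mul (hw.det i)

theorem exists_tot_ne_zero {K : Type u} [Field K] [Algebra R K] (φ : A →ₐ[R] K)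
    (hV : V ∈ W4c1limliniiii.LGPoints R d r n f g A)
    (hc : Cond D f g fun i => Module.Grassmannian.map φ (V i)) :
    ∃ v : Fin (n + 1) → Fin r → A ⊗[R] (Fin d → R),
      (∀ i l, v i l ∈ (V i).toSubmodule) ∧ φ (tot D f g v) ≠ 0 := by
  classical
  obtain ⟨w, hw⟩ := hc
  have hVK := mem_points_map hV φ
  have hv : ∀ i, ∃ v : Fin r → A ⊗[R] (Fin d → R), (∀ l, v l ∈ (V i).toSubmodule) ∧
      (mat D i fun l => bc φ (v l)).det ≠ 0 := by
    intro i
    let S : Set (Fin r → K) := (fun z => proj K D i (bc φ z)) '' ((V i).toSubmodule : Set (A ⊗[R] (Fin d → R)))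
    have hS : Submodule.span K S = ⊤ := by
      refine eq_top_iff.2 fun y _ => ?_
      have h1 : ∑ l, ((mat D i (trans f g D.c (fun j => w j) i))⁻¹.mulVec y) l • trans f g D.c w i l ∈
          (Module.Grassmannian.map φ (V i)).toSubmodule :=
        sum_mem fun l _ => Submodule.smul_mem _ _ (trans_mem_point D hVK hw.mem i l)
      rw [map_eq_span] at h1
      have h2 := Submodule.mem_map_of_mem (f := proj K D i) h1
      rw [Submodule.map_span, ← Set.image_comp, proj_sum, Matrix.mulVec_mulVec,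
        Matrix.mul_nonsing_inv _ (hw.det i), Matrix.one_mulVec] at h2
      exact h2
    obtain ⟨b, hbS, hb, hli⟩ := exists_linearIndependent K S
    rw [hS] at hb
    let B := Module.Basis.mk hli (by simpa using hb.ge)
    have : Fintype b := FiniteDimensional.fintypeBasisIndex B
    have hcard : Fintype.card b = r := by
      rw [← Module.finrank_eq_card_basis B, Module.finrank_fin_fun]
    let e : Fin r ≃ b := ((Fintype.equivFin b).trans (finCongr hcard)).symm
    choose v hv hv' using fun l => hbS (e l).2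
    refine ⟨v, hv, fun hd => ?_⟩
    obtain ⟨x, hx, hx'⟩ := (Matrix.exists_mulVec_eq_zero_iff).2 hd
    apply hx
    rw [← proj_sum] at hx'
    have hli' : LinearIndependent K fun l => proj K D i (bc φ (v l)) := by
      have : (fun l => proj K D i (bc φ (v l))) = ((↑) : b → Fin r → K) ∘ e := funext hv'
      rw [this]
      exact hli.comp _ e.injective
    rw [map_sum] at hx'
    simp only [map_smul] at hx'
    exact funext (Fintype.linearIndependent_iff.1 hli' x hx')
  choose v hv hd using hv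
  refine ⟨v, hv, ?_⟩
  rw [← tot_bc]
  exact (hw.isUnit_tot D hVK _ (fun i l => mem_map_of_mem φ (hv i l)) hd).ne_zero

theorem cond_iff_exists_tot_ne_zero {K : Type u} [Field K] [Algebra R K] (φ : A →ₐ[R] K)
    (hV : V ∈ W4c1limliniiii.LGPoints R d r n f g A) :
    Cond D f g (fun i => Module.Grassmannian.map φ (V i)) ↔
      ∃ v : Fin (n + 1) → Fin r → A ⊗[R] (Fin d → R),
        (∀ i l, v i l ∈ (V i).toSubmodule) ∧ φ (tot D f g v) ≠ 0 := by
  refine ⟨exists_tot_ne_zero D φ hV, fun ⟨v, hv, h⟩ => ?_⟩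
  exact cond_of_isUnit_tot D f g _ (fun i l => mem_map_of_mem φ (hv i l)) (by rw [tot_bc]; exact h.isUnit)

/-- The condition holds over a ring as soon as it holds at every point. -/
theorem cond_of_primes (hV : V ∈ W4c1limliniiii.LGPoints R d r n f g A)
    (h : ∀ P : Ideal A, P.IsPrime → ∃ v : Fin (n + 1) → Fin r → A ⊗[R] (Fin d → R),
      (∀ i l, v i l ∈ (V i).toSubmodule) ∧ tot D f g v ∉ P) : Cond D f g V := by
  have htop : ∀ i y, ∃ z ∈ (V i).toSubmodule, proj A D i z = y := by
    intro i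
    let J : Ideal A := Ideal.span {x | ∃ v : Fin r → A ⊗[R] (Fin d → R),
      (∀ l, v l ∈ (V i).toSubmodule) ∧ (mat D i v).det = x}
    have hJ : J = ⊤ := by
      by_contra hne
      obtain ⟨P, hP, hJP⟩ := Ideal.exists_le_maximal J hne
      obtain ⟨v, hv, hvP⟩ := h P hP.isPrime
      exact hvP (Ideal.mul_mem_right _ _ (Ideal.prod_mem P (Finset.mem_univ i)
        (hJP (Ideal.subset_span ⟨v i, hv i, rfl⟩))))
    intro y
    have h1 : (1 : A) • y ∈ Submodule.map (proj A D i) (V i).toSubmodule := by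
      have hle : J ≤ Submodule.comap ((LinearMap.id : A →ₗ[A] A).smulRight y)
          (Submodule.map (proj A D i) (V i).toSubmodule) := by
        refine Ideal.span_le.2 ?_
        rintro _ ⟨v, hv, rfl⟩
        refine ⟨∑ l, ((mat D i v).adjugate.mulVec y) l • v l, sum_mem fun l _ => Submodule.smul_mem _ _ (hv l), ?_⟩
        rw [proj_sum, Matrix.mulVec_mulVec, Matrix.mul_adjugate, Matrix.smul_mulVec, Matrix.one_mulVec]
        simp
      exact hle (hJ ▸ Submodule.mem_top)
    rw [one_smul] at h1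
    obtain ⟨z, hz, rfl⟩ := h1
    exact ⟨z, hz, rfl⟩
  choose z hz hz' using htop
  let v : Fin (n + 1) → Fin r → A ⊗[R] (Fin d → R) := fun i l => z i (Pi.single l 1)
  have hv : ∀ i l, v i l ∈ (V i).toSubmodule := fun i l => hz i _
  have hmat : ∀ i, mat D i (v i) = 1 := by
    intro i
    ext l j
    simp [mat, v, hz', Matrix.one_apply, Pi.single_apply]
  refine cond_of_isUnit_tot D f g v hv ?_
  by_contra hu
  obtain ⟨P, hP, hmem⟩ := exists_max_ideal_of_mem_nonunits hu
  obtain ⟨v', hv', hvP⟩ := h P hP.isPrime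
  let φ : A →ₐ[R] FractionRing (A ⧸ P) :=
    (IsScalarTower.toAlgHom R (A ⧸ P) (FractionRing (A ⧸ P))).comp (Ideal.Quotient.mkₐ R P)
  have hker : ∀ x, φ x = 0 ↔ x ∈ P := fun x => by
    show algebraMap (A ⧸ P) (FractionRing (A ⧸ P)) (Ideal.Quotient.mk P x) = 0 ↔ _
    rw [map_eq_zero_iff _ (IsFractionRing.injective (A ⧸ P) (FractionRing (A ⧸ P))), Ideal.Quotient.eq_zero_iff_mem]
  obtain ⟨w, hw⟩ := (cond_iff_exists_tot_ne_zero D φ hV).2 ⟨v', hv', fun h0 => hvP ((hker _).1 h0)⟩
  have h2 := hw.isUnit_tot D (mem_points_map hV φ) _ (fun i l => mem_map_of_mem φ (hv i l)) (fun i => by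
    rw [det_mat_bc, hmat, Matrix.det_one, map_one]; exact one_ne_zero)
  rw [tot_bc] at h2
  exact h2.ne_zero ((hker _).2 hmem)

end Groth.Agent.LinkGr
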