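import Groth.Agent.LinkGr.Chart
import Groth.Agent.Grass5.GrassMap
import Mathlib.AlgebraicGeometry.ResidueField
import Mathlib.RingTheory.Localization.Away.Basic
import Mathlib.RingTheory.MvPolynomial.Basic

/-!
The chart of a linked Grassmannian is an open subscheme isomorphic to the spectrum of a localised
polynomial ring.
-/

set_option autoImplicit false
set_option backward.isDefEq.respectTransparency false
universe u

open CategoryTheory CategoryTheory.Limits AlgebraicGeometry TopologicalSpace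
open scoped TensorProduct
open Groth.Agent.Grass5 (bc pt ptOf algOf ptMap hom_ext_pts exists_hom_of_pts)

noncomputable section

namespace Groth.Agent.LinkGr

variable {R : Type u} [CommRing R] {d r n : ℕ} (D : ChartData d r n)
variable (f g : Fin n → ((Fin d → R) →ₗ[R] (Fin d → R)))

/-- The free coordinates of a chart. -/
abbrev Coord : Type := {p : Fin r × Fin d // ∀ l, D.σ (D.c p.1) l ≠ p.2}

open Classical in
/-- The normalised vectors with given free coordinates. -/
def wOf {A : Type u} [CommRing A] [Algebra R A] (x : Coord D → A) (j : Fin r) : A ⊗[R] (Fin d → R) :=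
  (crd A (R := R) (d := d)).symm fun k => if h : ∀ l, D.σ (D.c j) l ≠ k then x ⟨(j, k), h⟩
    else if D.σ (D.c j) (D.a j) = k then 1 else 0

theorem proj_wOf {A : Type u} [CommRing A] [Algebra R A] (x : Coord D → A) (j : Fin r) :
    proj A D (D.c j) (wOf (R := R) D x j) = Pi.single (D.a j) 1 := by
  funext l
  rw [proj_apply, wOf, LinearEquiv.apply_symm_apply, dif_neg (fun h => h l rfl)]
  by_cases h : l = D.a j
  · subst h; simp
  · rw [if_neg (fun h' => h ((D.σ_inj _ h').symm)), Pi.single_eq_of_ne h]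

theorem eq_wOf {A : Type u} [CommRing A] [Algebra R A] {w : Fin r → A ⊗[R] (Fin d → R)}
    (hw : ∀ j, proj A D (D.c j) (w j) = Pi.single (D.a j) 1) :
    w = wOf D fun p => crd A (w p.1.1) p.1.2 := by
  funext j
  apply (crd A).injective
  funext k
  rw [wOf, LinearEquiv.apply_symm_apply]
  by_cases h : ∀ l, D.σ (D.c j) l ≠ k
  · rw [dif_pos h]
  · rw [dif_neg h]
    push_neg at h
    obtain ⟨l, rfl⟩ := h
    rw [← proj_apply, hw]
    by_cases h : l = D.a j
    · subst h; simp
    · rw [if_neg (fun h' => h ((D.σ_inj _ h').symm)), Pi.single_eq_of_ne h]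

theorem bc_wOf {A C : Type u} [CommRing A] [Algebra R A] [CommRing C] [Algebra R C] (φ : A →ₐ[R] C)
    (x : Coord D → A) (j : Fin r) : bc φ (wOf D x j) = wOf D (fun p => φ (x p)) j := by
  apply (crd C).injective
  funext k
  rw [crd_bc, wOf, wOf, LinearEquiv.apply_symm_apply, LinearEquiv.apply_symm_apply]
  split_ifs <;> simp

/-- The polynomial ring of a chart. -/
abbrev Poly : Type u := MvPolynomial (Coord D) R

/-- The product of the determinants of the universal normalised vectors. -/
def detProd : Poly (R := R) D := ∏ i, (mat D i (trans f g D.c (wOf (R := R) D (A := Poly (R := R) D) fun p => MvPolynomial.X p) i)).det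

/-- The coordinate ring of a chart. -/
abbrev ChartRing : Type u := Localization.Away (detProd D f g)

/-- The universal normalised vectors. -/
def gen (j : Fin r) : ChartRing D f g ⊗[R] (Fin d → R) :=
  wOf D (fun p => algebraMap (Poly (R := R) D) (ChartRing D f g) (MvPolynomial.X p)) j

theorem mat_trans_bc {A C : Type u} [CommRing A] [Algebra R A] [CommRing C] [Algebra R C] (φ : A →ₐ[R] C)
    (x : Coord D → A) (i : Fin (n + 1)) :
    (mat D i (trans f g D.c (wOf D fun p => φ (x p)) i)).det = φ (mat D i (trans f g D.c (wOf D x) i)).det := by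
  rw [← det_mat_bc D φ i]
  congr 2
  funext j
  rw [trans_map]
  congr 1
  funext l
  exact (bc_wOf D φ x l).symm

theorem isUnit_det_gen (i : Fin (n + 1)) : IsUnit (mat D i (trans f g D.c (gen D f g) i)).det := by
  have h : IsUnit (algebraMap (Poly (R := R) D) (ChartRing D f g) (detProd D f g)) :=
    IsLocalization.Away.algebraMap_isUnit (detProd D f g)
  simp only [detProd, map_prod] at h
  have h' := IsUnit.prod_univ_iff.1 h i
  rw [show algebraMap (Poly (R := R) D) (ChartRing D f g) =
    (IsScalarTower.toAlgHom R (Poly (R := R) D) (ChartRing D f g) : Poly D →+* ChartRing D f g) from rfl] at h'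
  exact (mat_trans_bc D f g (IsScalarTower.toAlgHom R (Poly (R := R) D) (ChartRing D f g)) _ i) ▸ h'

variable {f g}

theorem surjective_proj_of_det {A : Type u} [CommRing A] [Algebra R A] (i : Fin (n + 1))
    (v : Fin r → A ⊗[R] (Fin d → R)) (h : IsUnit (mat D i v).det) : Function.Surjective (proj A D i (R := R)) :=
  fun y => ⟨∑ l, ((mat D i v)⁻¹.mulVec y) l • v l, by
    rw [proj_sum, Matrix.mulVec_mulVec, Matrix.mul_nonsing_inv _ h, Matrix.one_mulVec]⟩

theorem isCompl_span {A : Type u} [CommRing A] [Algebra R A] (i : Fin (n + 1))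
    (v : Fin r → A ⊗[R] (Fin d → R)) (h : IsUnit (mat D i v).det) :
    IsCompl (Submodule.span A (Set.range v)) (LinearMap.ker (proj A D i (R := R))) := by
  constructor
  · rw [disjoint_iff, eq_bot_iff]
    rintro z ⟨hz, hz'⟩
    obtain ⟨x, rfl⟩ := (Submodule.mem_span_range_iff_exists_fun A).1 hz
    have hz' : proj A D i (∑ l, x l • v l) = 0 := hz'
    rw [proj_sum] at hz'
    have hx : x = 0 := by
      have := congrArg ((mat D i v)⁻¹.mulVec) hz'
      rwa [Matrix.mulVec_mulVec, Matrix.nonsing_inv_mul _ h, Matrix.one_mulVec, Matrix.mulVec_zero] at this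
    simp [hx]
  · rw [codisjoint_iff, eq_top_iff]
    intro z _
    let y := ∑ l, ((mat D i v)⁻¹.mulVec (proj A D i z)) l • v l
    have hy : proj A D i y = proj A D i z := by
      simp only [y]
      rw [proj_sum, Matrix.mulVec_mulVec, Matrix.mul_nonsing_inv _ h, Matrix.one_mulVec]
    refine Submodule.mem_sup.2 ⟨y, sum_mem fun l _ => Submodule.smul_mem _ _ (Submodule.subset_span ⟨l, rfl⟩),
      z - y, ?_, by abel⟩
    simp [LinearMap.mem_ker, hy]

theorem quotient_facts {M : Type u} {A : Type u} [CommRing A] [AddCommGroup M] [Module A M] [Module.Free A M]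
    [Module.Finite A M] (hM : ∀ p, Module.rankAtStalk (R := A) M p = d) (q : M →ₗ[A] (Fin r → A))
    (hq : Function.Surjective q) (S : Submodule A M) (hc : IsCompl S (LinearMap.ker q)) :
    Module.Finite A (M ⧸ S) ∧ Module.Projective A (M ⧸ S) ∧
      ∀ p, Module.rankAtStalk (R := A) (M ⧸ S) p = d - r := by
  obtain ⟨e⟩ := exists_splitEquiv q hq
  have h1 : Module.Finite A (LinearMap.ker q) := finite_of_equiv_prod e
  have h2 : Module.Projective A (LinearMap.ker q) := projective_of_equiv_prod e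
  have eK := Submodule.quotientEquivOfIsCompl _ _ hc
  refine ⟨Module.Finite.equiv eK.symm, Module.Projective.of_equiv eK.symm, fun p => ?_⟩
  have : Nontrivial A := ⟨0, 1, fun h => p.2.ne_top ((Ideal.eq_top_iff_one _).2 (h ▸ p.asIdeal.zero_mem))⟩
  have h3 := congrFun (Module.rankAtStalk_eq_of_equiv e) p
  rw [hM, Module.rankAtStalk_prod, Pi.add_apply,
    Module.rankAtStalk_eq_finrank_of_free (R := A) (M := Fin r → A)] at h3
  rw [Module.rankAtStalk_eq_of_equiv eK]
  simp at h3 ⊢
  omega

/-- The point of a Grassmannian spanned by a family with invertible projection. -/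
def spanPoint {A : Type u} [CommRing A] [Algebra R A] (i : Fin (n + 1)) (v : Fin r → A ⊗[R] (Fin d → R))
    (h : IsUnit (mat D i v).det) : Module.Grassmannian A (A ⊗[R] (Fin d → R)) (d - r) :=
  have H := quotient_facts (rankAtStalk_space (R := R) (A := A) (d := d)) (proj A D i)
    (surjective_proj_of_det D i v h) (Submodule.span A (Set.range v)) (isCompl_span D i v h)
  { toSubmodule := Submodule.span A (Set.range v)
    finite_quotient := H.1
    projective_quotient := H.2.1
    rankAtStalk_eq := H.2.2 }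

theorem spanPoint_toSubmodule {A : Type u} [CommRing A] [Algebra R A] (i : Fin (n + 1))
    (v : Fin r → A ⊗[R] (Fin d → R)) (h : IsUnit (mat D i v).det) :
    (spanPoint D i v h).toSubmodule = Submodule.span A (Set.range v) := rfl

theorem exists_point_of_gen {s : R} (hs : IsLinked f g s) {A : Type u} [CommRing A] [Algebra R A]
    (w : Fin r → A ⊗[R] (Fin d → R)) (hn : ∀ j, proj A D (D.c j) (w j) = Pi.single (D.a j) 1)
    (hd : ∀ i, IsUnit (mat D i (trans f g D.c w i)).det) :
    ∃ V ∈ W4c1limliniiii.LGPoints R d r n f g A, IsGen D f g V w :=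
  ⟨fun i => spanPoint D i _ (hd i), fun i => by
    simp only [spanPoint_toSubmodule]
    exact map_span_trans_le hs D.c w i, fun j => by
    simp only [spanPoint_toSubmodule]
    exact Submodule.subset_span ⟨j, trans_self f g D.c w j⟩, hn, hd⟩

theorem exists_algHom {A B : CommAlgCat.{u} R} (h : pt B ⟶ pt A) : ∃ φ : A ⟶ B, ptMap φ = h := by
  let ψ := Spec.preimage h.left
  have hw : CommRingCat.ofHom (algebraMap R A) ≫ ψ = CommRingCat.ofHom (algebraMap R B) := by
    refine Spec.map_injective ?_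
    rw [Spec.map_comp, Spec.map_preimage]
    exact Over.w h
  refine ⟨CommAlgCat.ofHom ({ toRingHom := ψ.hom, commutes' := fun x => congr($(hw).hom x) } : (A : Type u) →ₐ[R] B), ?_⟩
  exact Over.OverMorphism.ext (Spec.map_preimage h.left)

theorem ptMap_injective {A B : CommAlgCat.{u} R} {φ ψ : A ⟶ B} (h : ptMap φ = ptMap ψ) : φ = ψ := by
  have h1 : CommRingCat.ofHom φ.hom.toRingHom = CommRingCat.ofHom ψ.hom.toRingHom :=
    Spec.map_injective congr($(h).left)
  exact CommAlgCat.hom_ext (AlgHom.ext fun x => congr($(h1).hom x))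

variable {X : Over (Spec (CommRingCat.of R))}
variable (e : ∀ A : CommAlgCat.{u} R, (pt A ⟶ X) ≃ W4c1limliniiii.LGPoints R d r n f g A)

/-- Naturality of a representation. -/
def IsNatRep : Prop :=
  ∀ (A B : CommAlgCat.{u} R) (φ : A ⟶ B) (x : pt A ⟶ X) (x' : pt B ⟶ X),
    x'.left = Spec.map (CommRingCat.ofHom φ.hom.toRingHom) ≫ x.left →
      ∀ i, (e B x').1 i = Module.Grassmannian.map φ.hom ((e A x).1 i)

variable {e}

theorem IsNatRep.map (he : IsNatRep e) {A B : CommAlgCat.{u} R} (φ : A ⟶ B) (x : pt A ⟶ X) :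
    (e B (ptMap φ ≫ x)).1 = fun i => Module.Grassmannian.map φ.hom ((e A x).1 i) :=
  funext (he A B φ x _ rfl)

variable (e)

/-- The residue point. -/
abbrev resPt (x : X.left) : pt (algOf X (X.left.fromSpecResidueField x)) ⟶ X :=
  ptOf X (X.left.fromSpecResidueField x)

/-- The chart condition at a point. -/
def InChart (x : X.left) : Prop :=
  ∃ v : Fin (n + 1) → Fin r → (algOf X (X.left.fromSpecResidueField x) : Type u) ⊗[R] (Fin d → R),
    (∀ i l, v i l ∈ ((e _ (resPt x)).1 i).toSubmodule) ∧ tot D f g v ≠ 0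

variable {e}

theorem inChart_iff (he : IsNatRep e) {A : CommAlgCat.{u} R} (x : pt A ⟶ X) (P : PrimeSpectrum A) :
    InChart D e (x.left.base P) ↔
      ∃ v : Fin (n + 1) → Fin r → (A : Type u) ⊗[R] (Fin d → R),
        (∀ i l, v i l ∈ ((e A x).1 i).toSubmodule) ∧ tot D f g v ∉ P.asIdeal := by
  let K := FractionRing ((A : Type u) ⧸ P.asIdeal)
  let φ : (A : Type u) →ₐ[R] K :=
    (IsScalarTower.toAlgHom R ((A : Type u) ⧸ P.asIdeal) K).comp (Ideal.Quotient.mkₐ R P.asIdeal)
  have hker : ∀ a, φ a = 0 ↔ a ∈ P.asIdeal := fun a => by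
    show algebraMap ((A : Type u) ⧸ P.asIdeal) K (Ideal.Quotient.mk P.asIdeal a) = 0 ↔ _
    rw [map_eq_zero_iff _ (IsFractionRing.injective ((A : Type u) ⧸ P.asIdeal) K), Ideal.Quotient.eq_zero_iff_mem]
  let Φ : A ⟶ CommAlgCat.of R K := CommAlgCat.ofHom φ
  let h : pt (CommAlgCat.of R K) ⟶ X := ptMap Φ ≫ x
  have hP : h.left.base (IsLocalRing.closedPoint K) = x.left.base P := by
    show x.left.base ((Spec.map (CommRingCat.ofHom φ.toRingHom)).base (IsLocalRing.closedPoint K)) = _
    congr 1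
    refine PrimeSpectrum.ext (Ideal.ext fun a => ?_)
    show φ a ∈ IsLocalRing.maximalIdeal K ↔ _
    rw [IsLocalRing.maximalIdeal_eq_bot, Ideal.mem_bot, hker]
  rw [← hP]
  let hl : Spec (CommRingCat.of K) ⟶ X.left := h.left
  let zψ := Scheme.SpecToEquivOfField K X.left hl
  let z : X.left := zψ.1
  let ψ : X.left.residueField z ⟶ CommRingCat.of K := zψ.2
  have hψ : Spec.map ψ ≫ X.left.fromSpecResidueField z = hl :=
    (Scheme.SpecToEquivOfField K X.left).symm_apply_apply hl
  show InChart D e z ↔ _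
  have hw : CommRingCat.ofHom (algebraMap R (algOf X (X.left.fromSpecResidueField z))) ≫ ψ =
      CommRingCat.ofHom (algebraMap R K) := by
    refine Spec.map_injective ?_
    rw [Spec.map_comp, Grass5.algOf_specMap, ← Category.assoc, hψ]
    exact Over.w h
  letI : Algebra R (X.left.residueField z) :=
    (Spec.preimage (X.left.fromSpecResidueField z ≫ X.hom)).hom.toAlgebra
  let Ψ : algOf X (X.left.fromSpecResidueField z) ⟶ CommAlgCat.of R K :=
    CommAlgCat.ofHom ({ toRingHom := ψ.hom, commutes' := fun a => congr($(hw).hom a) } :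
      (algOf X (X.left.fromSpecResidueField z) : Type u) →ₐ[R] K)
  have h1 := he _ _ Ψ (resPt z) h hψ.symm
  have h2 := he _ _ Φ x h rfl
  have e1 := cond_iff_exists_tot_ne_zero D Ψ.hom (e _ (resPt z)).2
  have e2 := cond_iff_exists_tot_ne_zero D φ (e A x).2
  rw [← funext h1] at e1
  rw [show (fun i => Module.Grassmannian.map φ ((e A x).1 i)) = (e _ h).1 from (funext h2).symm] at e2
  have hinj : Function.Injective ψ.hom := ψ.hom.injective
  constructor
  · rintro ⟨v, hv, hne⟩
    obtain ⟨v', hv', h'⟩ := e2.1 (e1.2 ⟨v, hv, fun h0 => hne (hinj (h0.trans (map_zero ψ.hom).symm))⟩)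
    exact ⟨v', hv', fun hm => h' ((hker _).2 hm)⟩
  · rintro ⟨v, hv, hne⟩
    obtain ⟨v', hv', h'⟩ := e1.1 (e2.2 ⟨v, hv, fun h0 => hne ((hker _).1 h0)⟩)
    exact ⟨v', hv', fun h0 => h' ((congrArg Ψ.hom h0).trans (map_zero _))⟩

theorem cond_iff_range_subset (he : IsNatRep e) {A : CommAlgCat.{u} R} (x : pt A ⟶ X) :
    Cond D f g (e A x).1 ↔ Set.range x.left.base ⊆ {z | InChart D e z} := by
  constructor
  · rintro ⟨w, hw⟩ _ ⟨P, rfl⟩
    rw [Set.mem_setOf_eq, inChart_iff D he x P]
    let K := FractionRing ((A : Type u) ⧸ P.asIdeal)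
    let φ : (A : Type u) →ₐ[R] K :=
      (IsScalarTower.toAlgHom R ((A : Type u) ⧸ P.asIdeal) K).comp (Ideal.Quotient.mkₐ R P.asIdeal)
    obtain ⟨v, hv, hne⟩ := exists_tot_ne_zero D φ (e A x).2 ⟨_, hw.map D φ⟩
    refine ⟨v, hv, fun hm => hne ?_⟩
    show algebraMap ((A : Type u) ⧸ P.asIdeal) K (Ideal.Quotient.mk P.asIdeal _) = 0
    rw [Ideal.Quotient.eq_zero_iff_mem.2 hm, map_zero]
  · exact fun h => cond_of_primes D (e A x).2 fun P hP => (inChart_iff D he x ⟨P, hP⟩).1 (h ⟨⟨P, hP⟩, rfl⟩)

theorem isOpen_inChart (he : IsNatRep e) : IsOpen {x : X.left | InChart D e x} := by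
  refine (isOpen_iff_mem_nhds).2 fun z hz => ?_
  obtain ⟨U, hU, hzU, -⟩ := exists_isAffineOpen_mem_and_subset (X := X.left) (x := z) (U := ⊤) trivial
  let x : pt (algOf X hU.fromSpec) ⟶ X := ptOf X hU.fromSpec
  obtain ⟨P, rfl⟩ : z ∈ Set.range hU.fromSpec.base := by rw [hU.range_fromSpec]; exact hzU
  obtain ⟨v, hv, hne⟩ := (inChart_iff D he x P).1 hz
  refine Filter.mem_of_superset ((hU.fromSpec.isOpenEmbedding.isOpenMap _
    (PrimeSpectrum.isOpen_basicOpen (a := tot D f g v))).mem_nhds ⟨P, hne, rfl⟩) ?_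
  rintro _ ⟨Q, hQ, rfl⟩
  exact (inChart_iff D he x Q).2 ⟨v, hv, hQ⟩

/-- The open subscheme of a chart. -/
def chartOpen (he : IsNatRep e) : X.left.Opens := ⟨{x | InChart D e x}, isOpen_inChart D he⟩

/-- The chart as an object over the base. -/
abbrev chartOver (he : IsNatRep e) : Over (Spec (CommRingCat.of R)) := Over.mk ((chartOpen D he).ι ≫ X.hom)

theorem cond_of_chart (he : IsNatRep e) {A : CommAlgCat.{u} R} (x : pt A ⟶ chartOver D he) :
    Cond D f g (e A (x ≫ Over.homMk (chartOpen D he).ι rfl)).1 := by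
  rw [cond_iff_range_subset D he]
  rintro _ ⟨P, rfl⟩
  exact (x.left.base P).2

omit X in
theorem crd_bc_gen {A : Type u} [CommRing A] [Algebra R A] (φ : ChartRing D f g →ₐ[R] A) (p : Coord D) :
    crd A (bc φ (gen D f g p.1.1)) p.1.2 =
      φ (algebraMap (Poly (R := R) D) (ChartRing D f g) (MvPolynomial.X p)) := by
  refine (crd_bc φ _ _).trans (congrArg φ ?_)
  rw [gen, wOf, LinearEquiv.apply_symm_apply, dif_pos p.2]

omit X in
theorem hom_ext_gen {A : Type u} [CommRing A] [Algebra R A] {φ ψ : ChartRing D f g →ₐ[R] A}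
    (h : ∀ j, bc φ (gen D f g j) = bc ψ (gen D f g j)) : φ = ψ := by
  refine IsLocalization.algHom_ext (Submonoid.powers (detProd D f g)) ?_
  refine MvPolynomial.algHom_ext fun p => ?_
  exact (crd_bc_gen D φ p).symm.trans
    ((congrArg (fun z => crd A z p.1.2) (h p.1.1)).trans (crd_bc_gen D ψ p))

omit X in
/-- The coordinate ring classifies normalised generators. -/
theorem existsUnique_hom_of_gen {A : Type u} [CommRing A] [Algebra R A]
    {V : Fin (n + 1) → Module.Grassmannian A (A ⊗[R] (Fin d → R)) (d - r)}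
    (hV : V ∈ W4c1limliniiii.LGPoints R d r n f g A) (hc : Cond D f g V) :
    ∃! φ : ChartRing D f g →ₐ[R] A, IsGen D f g V fun j => bc φ (gen D f g j) := by
  obtain ⟨w, hw⟩ := hc
  let co : Coord D → A := fun p => crd A (w p.1.1) p.1.2
  have hwco : w = wOf D co := eq_wOf D hw.norm
  let θ : Poly (R := R) D →ₐ[R] A := MvPolynomial.aeval co
  have hu : IsUnit (θ (detProd D f g)) := by
    simp only [detProd, map_prod]
    refine IsUnit.prod_univ_iff.2 fun i => ?_
    rw [← mat_trans_bc D f g θ _ i]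
    have hX : (fun p : Coord D => θ (MvPolynomial.X p)) = co := funext fun p => MvPolynomial.aeval_X _ _
    rw [hX, ← hwco]
    exact hw.det i
  let φ : ChartRing D f g →ₐ[R] A :=
    IsLocalization.liftAlgHom (M := Submonoid.powers (detProd D f g)) (f := θ) (by
      rintro ⟨_, m, rfl⟩
      simpa using hu.pow m)
  have hφ : ∀ p, φ (algebraMap (Poly (R := R) D) (ChartRing D f g) p) = θ p := fun p =>
    IsLocalization.lift_eq _ p
  have hgen : (fun j => bc φ (gen D f g j)) = w := by
    funext j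
    rw [hwco]
    refine (bc_wOf D φ _ j).trans ?_
    congr 1
    funext p
    exact (hφ _).trans (MvPolynomial.aeval_X _ _)
  refine ⟨φ, (show IsGen D f g V fun j => bc φ (gen D f g j) by rw [hgen]; exact hw), fun φ' hφ' => ?_⟩
  exact hom_ext_gen D fun j => (congrFun (hw.unique D hV hφ'.mem hφ'.norm) j).trans (congrFun hgen j).symm

omit X in
theorem bc_bc {A B C : Type u} [CommRing A] [Algebra R A] [CommRing B] [Algebra R B] [CommRing C] [Algebra R C]
    (φ : A →ₐ[R] B) (ψ : B →ₐ[R] C) (z : A ⊗[R] (Fin d → R)) : bc ψ (bc φ z) = bc (ψ.comp φ) z := by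
  induction z using TensorProduct.induction_on with
  | zero => simp
  | tmul b m => simp
  | add u v hu hv => simp only [map_add, hu, hv]

/-- A chart is isomorphic to the spectrum of its coordinate ring. -/
theorem exists_chart_iso (he : IsNatRep e) {s : R} (hs : IsLinked f g s) :
    Nonempty (chartOver D he ≅ pt (CommAlgCat.of R (ChartRing D f g))) := by
  classical
  let Rh := CommAlgCat.of R (ChartRing D f g)
  let ι : chartOver D he ⟶ X := Over.homMk (chartOpen D he).ι rfl
  have : Mono ι := by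
    haveI : Mono ι.left := (inferInstance : Mono (chartOpen D he).ι)
    exact Over.mono_of_mono_left ι
  have hkey : ∀ (A : CommAlgCat.{u} R) (x : pt A ⟶ chartOver D he), ∃! φ : Rh ⟶ A,
      IsGen D f g (e A (x ≫ ι)).1 fun j => bc φ.hom (gen D f g j) := fun A x => by
    obtain ⟨φ, hφ, hu⟩ := existsUnique_hom_of_gen D (e A (x ≫ ι)).2 (cond_of_chart D he x)
    exact ⟨CommAlgCat.ofHom φ, hφ, fun ψ hψ => CommAlgCat.hom_ext (hu ψ.hom hψ)⟩
  choose F₀ hF₀ hF₁ using hkey
  obtain ⟨a, ha⟩ := exists_hom_of_pts (fun A x => ptMap (F₀ A x) : ∀ A : CommAlgCat.{u} R, (pt A ⟶ chartOver D he) → (pt A ⟶ pt Rh)) (by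
    intro A B φ x x' h
    have hx : x' = ptMap φ ≫ x := Over.OverMorphism.ext h
    subst hx
    have h1 : F₀ B (ptMap φ ≫ x) = F₀ A x ≫ φ := by
      refine (hF₁ B _ _ ?_).symm
      have h2 := (hF₀ A x).map D φ.hom
      have h3 : (fun j => bc φ.hom (bc (F₀ A x).hom (gen D f g j))) = fun j => bc (F₀ A x ≫ φ).hom (gen D f g j) :=
        funext fun j => bc_bc _ _ _
      rw [h3] at h2
      show IsGen D f g (e B ((ptMap φ ≫ x) ≫ ι)).1 _
      rw [Category.assoc, he.map φ (x ≫ ι)]
      exact h2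
    show Spec.map _ = Spec.map _ ≫ Spec.map _
    rw [← Spec.map_comp, ← CommRingCat.ofHom_comp, h1]
    rfl)
  obtain ⟨V₀, hV₀, hgen₀⟩ := exists_point_of_gen D hs (gen D f g) (fun j => proj_wOf D _ j) (isUnit_det_gen D f g)
  let x₀ : pt Rh ⟶ X := (e Rh).symm ⟨V₀, hV₀⟩
  have hx₀ : (e Rh x₀).1 = V₀ := congrArg Subtype.val ((e Rh).apply_symm_apply _)
  have hsub : Set.range x₀.left.base ⊆ Set.range (chartOpen D he).ι.base := by
    rw [Scheme.Opens.range_ι]
    exact (cond_iff_range_subset D he x₀).1 (hx₀ ▸ ⟨_, hgen₀⟩)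
  let b : pt Rh ⟶ chartOver D he := Over.homMk (IsOpenImmersion.lift (chartOpen D he).ι x₀.left hsub) (by
    show _ ≫ _ ≫ _ = _
    rw [← Category.assoc, IsOpenImmersion.lift_fac]
    exact Over.w x₀)
  have hb : b ≫ ι = x₀ := Over.OverMorphism.ext (IsOpenImmersion.lift_fac _ _ _)
  have hVb : ∀ (A : CommAlgCat.{u} R) (φ : Rh ⟶ A), IsGen D f g (e A (ptMap φ ≫ x₀)).1
      fun j => bc φ.hom (gen D f g j) := fun A φ => by
    rw [he.map φ x₀, hx₀]
    exact hgen₀.map D φ.hom
  refine ⟨⟨a, b, hom_ext_pts _ _ fun A x => ?_, hom_ext_pts _ _ fun A x => ?_⟩⟩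
  · rw [← Category.assoc, ha, Category.comp_id, ← cancel_mono ι, Category.assoc, hb]
    refine (e A).injective (Subtype.ext (funext fun i => Module.Grassmannian.ext ?_))
    show (((e A) (ptMap (F₀ A x) ≫ x₀)).1 i).toSubmodule = _
    rw [(hVb A _).span_eq D (e A _).2 i, (hF₀ A x).span_eq D (e A _).2 i]
  · obtain ⟨φ, rfl⟩ := exists_algHom x
    rw [← Category.assoc, ha, Category.comp_id]
    refine congrArg ptMap (hF₁ A _ φ ?_).symm
    rw [Category.assoc, hb]
    exact hVb A φ

end Groth.Agent.LinkGr
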