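import Groth.Prelude.Def_W4c1limliniiiiLG
import Groth.Agent.Grass5.Apps
import Groth.Agent.Grass5.GrassCond
import Groth.Agent.Approx60.Segre
import Mathlib.AlgebraicGeometry.Morphisms.Proper

/-!
The linked Grassmannian is representable by a proper scheme.
-/

set_option autoImplicit false
set_option backward.isDefEq.respectTransparency false
universe u

open CategoryTheory CategoryTheory.Limits AlgebraicGeometry
open scoped TensorProduct
open Groth.Agent.Grass5

namespace Groth.Agent.LinkGr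

variable {R : Type u} [CommRing R]

theorem exists_prod (G : Over (Spec (CommRingCat.of R))) (hG : IsProper G.hom) : ∀ m : ℕ,
    ∃ (P : Over (Spec (CommRingCat.of R))) (π : Fin m → (P ⟶ G)), IsProper P.hom ∧
      ∀ T : Over (Spec (CommRingCat.of R)), Function.Bijective (fun (g : T ⟶ P) i => g ≫ π i)
  | 0 => ⟨Over.mk (𝟙 _), finZeroElim, (inferInstance : IsProper (𝟙 (Spec (CommRingCat.of R)))), fun T =>
      ⟨fun a b _ => Over.OverMorphism.ext
        (((Category.comp_id _).symm.trans (Over.w a)).trans ((Category.comp_id _).symm.trans (Over.w b)).symm),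
        fun x => ⟨Over.homMk T.hom (Category.comp_id _), funext fun i => i.elim0⟩⟩⟩
  | m + 1 => by
    obtain ⟨Q, π, hQ, hbij⟩ := exists_prod G hG m
    let P : Over (Spec (CommRingCat.of R)) := Over.mk (pullback.fst G.hom Q.hom ≫ G.hom)
    let p : P ⟶ G := Over.homMk (pullback.fst G.hom Q.hom) rfl
    let q : P ⟶ Q := Over.homMk (pullback.snd G.hom Q.hom) pullback.condition.symm
    refine ⟨P, Fin.cons p (fun i => q ≫ π i), ?_, fun T => ⟨fun a b h => ?_, fun x => ?_⟩⟩
    · exact MorphismProperty.comp_mem _ _ _ (MorphismProperty.pullback_fst _ _ hQ) hG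
    · have h0 : a ≫ p = b ≫ p := by simpa using congrFun h 0
      have h1 : a ≫ q = b ≫ q := (hbij T).1 (funext fun i => by simpa [Category.assoc] using congrFun h i.succ)
      refine Over.OverMorphism.ext (pullback.hom_ext ?_ ?_)
      · exact congr($(h0).left)
      · exact congr($(h1).left)
    · obtain ⟨g', hg'⟩ := (hbij T).2 (fun i => x i.succ)
      let g : T ⟶ P := Over.homMk (pullback.lift (x 0).left g'.left ((Over.w (x 0)).trans (Over.w g').symm))
        (by simp [P])
      have hp : g ≫ p = x 0 := Over.OverMorphism.ext (pullback.lift_fst _ _ _)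
      have hq : g ≫ q = g' := Over.OverMorphism.ext (pullback.lift_snd _ _ _)
      refine ⟨g, funext (Fin.cases ?_ fun i => ?_)⟩
      · simpa using hp
      · simp only [Fin.cons_succ]
        rw [← Category.assoc, hq]
        exact congrFun hg' i

theorem exists_grassmannian (d k : ℕ) (hk : k ≤ d) :
    ∃ (G : Over (Spec (CommRingCat.of R)))
      (e : ∀ A : CommAlgCat.{u} R, (pt A ⟶ G) ≃ Module.Grassmannian A ((A : Type u) ⊗[R] (Fin d → R)) k),
      IsRep e ∧ IsProper G.hom := by
  obtain ⟨e, -, he⟩ := Free.exists_representing hk R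
  refine ⟨_, e, he, ?_⟩
  obtain ⟨c, hc, hcw⟩ := exists_plucker hk e he
  rw [← hcw]
  exact MorphismProperty.comp_mem _ _ _ inferInstance (Approx60.Segre.isProper_toBase _ _)

variable (d r n : ℕ) (f g : Fin n → ((Fin d → R) →ₗ[R] (Fin d → R)))

/-- The ideal of the linking conditions. -/
noncomputable def linkIdeal {A : Type u} [CommRing A] [Algebra R A]
    (V : Fin (n + 1) → Module.Grassmannian A (A ⊗[R] (Fin d → R)) (d - r)) : Ideal A :=
  ⨆ i : Fin n, condIdeal (V i.succ).toSubmodule (spanImages (fun _ : PUnit.{u + 1} => f i) (V i.castSucc).toSubmodule) ⊔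
    condIdeal (V i.castSucc).toSubmodule (spanImages (fun _ : PUnit.{u + 1} => g i) (V i.succ).toSubmodule)

theorem linkIdeal_map {A C : Type u} [CommRing A] [Algebra R A] [CommRing C] [Algebra R C] (φ : A →ₐ[R] C)
    (V : Fin (n + 1) → Module.Grassmannian A (A ⊗[R] (Fin d → R)) (d - r)) :
    linkIdeal d r n f g (fun j => Module.Grassmannian.map φ (V j)) = (linkIdeal d r n f g V).map φ.toRingHom := by
  simp only [linkIdeal, Ideal.map_iSup, Ideal.map_sup]
  refine iSup_congr fun i => ?_
  rw [condIdeal_map φ _ _ _ (spanImages_map _ φ _), condIdeal_map φ _ _ _ (spanImages_map _ φ _)]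

theorem linkIdeal_eq_bot_iff {A : Type u} [CommRing A] [Algebra R A]
    (V : Fin (n + 1) → Module.Grassmannian A (A ⊗[R] (Fin d → R)) (d - r)) :
    linkIdeal d r n f g V = ⊥ ↔ V ∈ W4c1limliniiii.LGPoints R d r n f g A := by
  simp only [linkIdeal, iSup_eq_bot, sup_eq_bot_iff, condIdeal_eq_bot_iff, spanImages_le_iff,
    W4c1limliniiii.LGPoints, Set.mem_setOf_eq, Submodule.map_le_iff_le_comap]
  exact forall_congr' fun i => ⟨fun h => ⟨fun z hz => h.1 ⟨⟩ z hz, fun z hz => h.2 ⟨⟩ z hz⟩,
    fun h => ⟨fun _ z hz => h.1 hz, fun _ z hz => h.2 hz⟩⟩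

theorem exists_linkedGrassmannian :
    ∃ (X : Over (Spec (CommRingCat.of R)))
      (e : ∀ A : CommAlgCat.{u} R, (pt A ⟶ X) ≃ W4c1limliniiii.LGPoints R d r n f g A),
      (∀ (A B : CommAlgCat.{u} R) (φ : A ⟶ B) (x : pt A ⟶ X) (x' : pt B ⟶ X),
        x'.left = Spec.map (CommRingCat.ofHom φ.hom.toRingHom) ≫ x.left →
          ∀ i, (e B x').1 i = Module.Grassmannian.map φ.hom ((e A x).1 i)) ∧
      IsProper X.hom := by
  obtain ⟨G, eG, heG, hG⟩ := exists_grassmannian (R := R) d (d - r) (Nat.sub_le d r)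
  obtain ⟨P, π, hP, hbij⟩ := exists_prod G hG (n + 1)
  let V : ∀ A : CommAlgCat.{u} R, (pt A ⟶ P) → Fin (n + 1) →
      Module.Grassmannian A ((A : Type u) ⊗[R] (Fin d → R)) (d - r) := fun A x j => eG A (x ≫ π j)
  have hV : ∀ A, Function.Bijective (V A) := fun A =>
    ((Equiv.piCongrRight fun _ : Fin (n + 1) => eG A).bijective).comp (hbij (pt A))
  have hVn : ∀ (A B : CommAlgCat.{u} R) (φ : A ⟶ B) (x : pt A ⟶ P) (x' : pt B ⟶ P),
      x'.left = Spec.map (CommRingCat.ofHom φ.hom.toRingHom) ≫ x.left →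
        ∀ j, V B x' j = Module.Grassmannian.map φ.hom (V A x j) := fun A B φ x x' h j =>
    heG A B φ _ _ (by rw [Over.comp_left, Over.comp_left, h, Category.assoc])
  have hI : IsNat (X := P) fun A x => linkIdeal d r n f g (V A x) := by
    intro A B φ x x' h
    dsimp only
    rw [funext (hVn A B φ x x' h)]
    exact linkIdeal_map d r n f g φ.hom _
  obtain ⟨Z, ι, hι, hZ⟩ := exists_closedImmersion_of_ideals hI
  let X : Over (Spec (CommRingCat.of R)) := Over.mk (ι ≫ P.hom)
  let ιo : X ⟶ P := Over.homMk ι rfl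
  have hmem : ∀ (A : CommAlgCat.{u} R) (x : pt A ⟶ X), V A (x ≫ ιo) ∈ W4c1limliniiii.LGPoints R d r n f g A :=
    fun A x => (linkIdeal_eq_bot_iff d r n f g _).1 ((hZ A (x ≫ ιo)).1 ⟨x.left, rfl⟩)
  have he : ∀ A, Function.Bijective
      (fun x : pt A ⟶ X => (⟨V A (x ≫ ιo), hmem A x⟩ : W4c1limliniiii.LGPoints R d r n f g A)) := by
    refine fun A => ⟨fun a b h => ?_, fun v => ?_⟩
    · have h1 : a ≫ ιo = b ≫ ιo := (hV A).1 (congrArg Subtype.val h)
      haveI : Mono ι := inferInstance
      exact Over.OverMorphism.ext ((cancel_mono ι).1 congr($(h1).left))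
    · obtain ⟨y, hy⟩ := (hV A).2 v.1
      obtain ⟨h, hh⟩ := (hZ A y).2 ((linkIdeal_eq_bot_iff d r n f g _).2 (hy ▸ v.2))
      let x : pt A ⟶ X := Over.homMk h (by
        show h ≫ ι ≫ P.hom = _
        rw [← Category.assoc, hh]
        exact Over.w y)
      have hx : x ≫ ιo = y := Over.OverMorphism.ext hh
      exact ⟨x, Subtype.ext ((congrArg (V A) hx).trans hy)⟩
  refine ⟨X, fun A => Equiv.ofBijective _ (he A), fun A B φ x x' h i => ?_, ?_⟩
  · exact hVn A B φ (x ≫ ιo) (x' ≫ ιo) (by rw [Over.comp_left, Over.comp_left, h, Category.assoc]) i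
  · exact MorphismProperty.comp_mem _ _ _ inferInstance hP

end Groth.Agent.LinkGr
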