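import Groth.Agent.LinkGr.Global
import Groth.Agent.LinkGr.Rep
import Groth.Agent.VarGal.LocalDim
import Mathlib.AlgebraicGeometry.Morphisms.Smooth
import Mathlib.RingTheory.KrullDimension.Polynomial
import Mathlib.Topology.KrullDimension

/-!
Components and smooth points of a linked Grassmannian.
-/

set_option autoImplicit false
set_option backward.isDefEq.respectTransparency false
universe u

open CategoryTheory CategoryTheory.Limits AlgebraicGeometry TopologicalSpace
open scoped TensorProduct
open Groth.Agent.Grass5 (bc bc_baseChange pt ptMap exists_hom_of_pts hom_ext_pts)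

noncomputable section

namespace Groth.Agent.LinkGr

variable {R : Type u} [CommRing R] {d r n : ℕ}
variable {f g : Fin n → ((Fin d → R) →ₗ[R] (Fin d → R))} {s : R}
variable {X : Over (Spec (CommRingCat.of R))}
variable {e : ∀ A : CommAlgCat.{u} R, (pt A ⟶ X) ≃ W4c1limliniiii.LGPoints R d r n f g A}

/-- A representing scheme is proper. -/
theorem isProper_of_rep (he : IsNatRep e) : IsProper X.hom := by
  obtain ⟨Y, e', he', hY⟩ := exists_linkedGrassmannian d r n f g
  obtain ⟨a, ha⟩ := exists_hom_of_pts (Y := X) (X := Y) (fun A x => (e' A).symm (e A x)) (by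
    intro A B φ x x' h
    have hx : x' = ptMap φ ≫ x := Over.OverMorphism.ext h
    subst hx
    have key : (e' B).symm (e B (ptMap φ ≫ x)) = ptMap φ ≫ (e' A).symm (e A x) := by
      refine (e' B).symm_apply_eq.2 (Subtype.ext (funext fun i => ?_))
      rw [he A B φ x _ rfl i, he' A B φ ((e' A).symm (e A x)) (ptMap φ ≫ _) rfl i, Equiv.apply_symm_apply]
    exact congr($(key).left))
  obtain ⟨b, hb⟩ := exists_hom_of_pts (Y := Y) (X := X) (fun A x => (e A).symm (e' A x)) (by
    intro A B φ x x' h
    have hx : x' = ptMap φ ≫ x := Over.OverMorphism.ext h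
    subst hx
    have key : (e B).symm (e' B (ptMap φ ≫ x)) = ptMap φ ≫ (e A).symm (e' A x) := by
      refine (e B).symm_apply_eq.2 (Subtype.ext (funext fun i => ?_))
      rw [he' A B φ x _ rfl i, he A B φ ((e A).symm (e' A x)) (ptMap φ ≫ _) rfl i, Equiv.apply_symm_apply]
    exact congr($(key).left))
  have hab : a ≫ b = 𝟙 _ := hom_ext_pts _ _ fun A x => by
    rw [← Category.assoc, ha, hb, Equiv.apply_symm_apply, Equiv.symm_apply_apply, Category.comp_id]
  have hba : b ≫ a = 𝟙 _ := hom_ext_pts _ _ fun A x => by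
    rw [← Category.assoc, hb, ha, Equiv.apply_symm_apply, Equiv.symm_apply_apply, Category.comp_id]
  let I : X ≅ Y := ⟨a, b, hab, hba⟩
  have : IsIso I.hom.left := ((Over.forget _).mapIso I).isIso_hom
  rw [← Over.w I.hom]
  exact MorphismProperty.comp_mem _ _ _ inferInstance hY

section Chart

variable (he : IsNatRep e) (hs : IsLinked f g s) (D : ChartData d r n)

/-- A chart is homeomorphic to the spectrum of its coordinate ring. -/
def chartHomeo : ↥(chartOpen D he) ≃ₜ PrimeSpectrum (ChartRing D f g) :=
  let I := (exists_chart_iso D he hs).some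
  let J : ((chartOpen D he : X.left.Opens) : Scheme.{u}) ≅ Spec (CommRingCat.of (ChartRing D f g)) :=
    (Over.forget _).mapIso I
  Scheme.Hom.homeomorph J.hom

theorem smooth_chart_ring : Algebra.Smooth R (ChartRing D f g) := by
  have h1 : Algebra.FinitePresentation R (MvPolynomial (Coord D) R) := inferInstance
  have h2 : Algebra.FinitePresentation (MvPolynomial (Coord D) R) (ChartRing D f g) :=
    IsLocalization.Away.finitePresentation (detProd D f g)
  exact ⟨inferInstance, Algebra.FinitePresentation.trans R (MvPolynomial (Coord D) R) (ChartRing D f g)⟩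

include hs in
theorem smooth_chart : Smooth ((chartOpen D he).ι ≫ X.hom) := by
  obtain ⟨I⟩ := exists_chart_iso D he hs
  have : IsIso I.hom.left := inferInstanceAs (IsIso ((Over.forget _).map I.hom))
  have : Smooth (Spec.map (CommRingCat.ofHom (algebraMap R (ChartRing D f g)))) := by
    rw [HasRingHomProperty.Spec_iff (P := @Smooth)]
    exact (RingHom.smooth_algebraMap).mpr (smooth_chart_ring D)
  rw [show (chartOpen D he).ι ≫ X.hom = I.hom.left ≫ (pt (CommAlgCat.of R (ChartRing D f g))).hom from
    (Over.w I.hom).symm]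
  exact MorphismProperty.comp_mem _ _ _ inferInstance this

include hs in
theorem formallySmooth_stalk {z : X.left} (hz : z ∈ chartOpen D he) :
    (X.hom.stalkMap z).hom.FormallySmooth := by
  have := smooth_chart he hs D
  obtain ⟨y, rfl⟩ : z ∈ Set.range (chartOpen D he).ι := by rwa [Scheme.Opens.range_ι]
  have h1 : (((chartOpen D he).ι ≫ X.hom).stalkMap y).hom.FormallySmooth := by
    rw [← Scheme.Hom.mem_smoothLocus, Scheme.Hom.smoothLocus_eq_top]; trivial
  rw [Scheme.Hom.stalkMap_comp] at h1
  exact (RingHom.FormallySmooth.respectsIso.cancel_right_isIso _ _).mp h1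

variable [IsDomain R]

include hs in
theorem detProd_ne_zero (hne : (chartOpen D he : Set X.left).Nonempty) : detProd D f g ≠ 0 := fun h0 => by
  obtain ⟨z, hz⟩ := hne
  let P := chartHomeo he hs D ⟨z, hz⟩
  have hu : IsUnit (algebraMap (Poly (R := R) D) (ChartRing D f g) (detProd D f g)) :=
    IsLocalization.Away.algebraMap_isUnit (detProd D f g)
  replace hu := (congrArg (algebraMap (Poly (R := R) D) (ChartRing D f g)) h0).trans (map_zero _) ▸ hu
  exact P.2.ne_top (Ideal.eq_top_of_isUnit_mem _ P.asIdeal.zero_mem hu)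

include hs in
theorem isDomain_chartRing (hne : (chartOpen D he : Set X.left).Nonempty) : IsDomain (ChartRing D f g) :=
  IsLocalization.isDomain_localization
    (powers_le_nonZeroDivisors_of_noZeroDivisors (detProd_ne_zero he hs D hne))

include hs in
theorem isIrreducible_chart (hne : (chartOpen D he : Set X.left).Nonempty) :
    IsIrreducible (chartOpen D he : Set X.left) := by
  have := isDomain_chartRing he hs D hne
  have h := (IrreducibleSpace.isIrreducible_univ (PrimeSpectrum (ChartRing D f g))).image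
    (fun p => ((chartHomeo he hs D).symm p).1) (continuous_subtype_val.comp (Homeomorph.continuous _)).continuousOn
  convert h using 1
  ext z
  simp only [Set.image_univ, Set.mem_range]
  exact ⟨fun hz => ⟨chartHomeo he hs D ⟨z, hz⟩, by simp⟩, by rintro ⟨p, rfl⟩; exact ((chartHomeo he hs D).symm p).2⟩

include hs in
theorem closure_chart_mem (hne : (chartOpen D he : Set X.left).Nonempty) :
    closure (chartOpen D he : Set X.left) ∈ irreducibleComponents X.left := by
  refine ⟨(isIrreducible_chart he hs D hne).closure, fun S hS hle => ?_⟩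
  obtain ⟨z, hz⟩ := hne
  refine (subset_closure_inter_of_isPreirreducible_of_isOpen hS.2 (chartOpen D he).2 ⟨z, hle (subset_closure hz), hz⟩).trans ?_
  exact closure_mono (fun y hy => hy.2)

include hs in
theorem eq_closure_chart {Z : Set X.left} (hZ : Z ∈ irreducibleComponents X.left)
    (hne : (Z ∩ (chartOpen D he : Set X.left)).Nonempty) : Z = closure (chartOpen D he : Set X.left) := by
  refine le_antisymm ?_ ?_
  · exact (subset_closure_inter_of_isPreirreducible_of_isOpen hZ.1.2 (chartOpen D he).2 hne).trans (closure_mono (fun y hy => hy.2))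
  · refine hZ.2 (closure_chart_mem he hs D (hne.mono Set.inter_subset_right)).1 ?_
    exact (subset_closure_inter_of_isPreirreducible_of_isOpen hZ.1.2 (chartOpen D he).2 hne).trans (closure_mono (fun y hy => hy.2))

end Chart

theorem exists_chart_of_component (he : IsNatRep e) (hs : IsLinked f g s) (hrd : r ≤ d)
    (hyp : ∀ (K : Type u) [Field K] [Algebra R K], Hyp f g K) {Z : Set X.left}
    (hZ : Z ∈ irreducibleComponents X.left) :
    ∃ D, (Z ∩ (chartOpen D he : Set X.left)).Nonempty := by
  obtain ⟨ζ, hζ⟩ := QuasiSober.sober hZ.1 (isClosed_of_mem_irreducibleComponents Z hZ)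
  obtain ⟨D, η, hη, hsp⟩ := exists_chart_generalization he hs hrd hyp ζ
  refine ⟨D, η, ?_, hη⟩
  have h1 : Z ⊆ closure {η} := hζ.def ▸ closure_minimal (Set.singleton_subset_iff.2 hsp.mem_closure) isClosed_closure
  exact hZ.2 isIrreducible_singleton.closure h1 (subset_closure rfl)

theorem dense_charts (he : IsNatRep e) (hs : IsLinked f g s) (hrd : r ≤ d)
    (hyp : ∀ (K : Type u) [Field K] [Algebra R K], Hyp f g K) :
    Dense (⋃ D, (chartOpen D he : Set X.left)) := fun z => by
  obtain ⟨D, η, hη, hsp⟩ := exists_chart_generalization he hs hrd hyp z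
  exact closure_mono (Set.singleton_subset_iff.2 (Set.mem_iUnion.2 ⟨D, hη⟩)) hsp.mem_closure

section Field

variable {k : Type u} [Field k] {f g : Fin n → ((Fin d → k) →ₗ[k] (Fin d → k))} {s : k}
variable {X : Over (Spec (CommRingCat.of k))}
variable {e : ∀ A : CommAlgCat.{u} k, (pt A ⟶ X) ≃ W4c1limliniiii.LGPoints k d r n f g A}
variable (he : IsNatRep e) (hs : IsLinked f g s) (hrd : r ≤ d)

theorem Hyp.of_ground (h : Hyp f g k) (K : Type u) [Field K] [Algebra k K] : Hyp f g K :=
  h.map (Algebra.ofId k K)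

include he hs hrd in
theorem exact_iff_chart (h : Hyp f g k) (x : pt (CommAlgCat.of k k) ⟶ X) :
    W4c1limliniiii.IsExact k d r n f g k (e _ x).1 ↔ ∃ D, img x ∈ chartOpen D he := by
  constructor
  · intro hex
    obtain ⟨D, hD⟩ := exists_cond_of_exact hs hrd h (e _ x).2 hex
    exact ⟨D, (img_mem_iff he D x).2 hD⟩
  · rintro ⟨D, hD⟩
    exact exact_of_cond hs hrd (e _ x).2 ((img_mem_iff he D x).1 hD)

include he hs hrd in
theorem not_exact_iff_two_components (h : Hyp f g k) (x : pt (CommAlgCat.of k k) ⟶ X) :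
    ¬ W4c1limliniiii.IsExact k d r n f g k (e _ x).1 ↔
      ∃ Z₁ ∈ irreducibleComponents X.left, ∃ Z₂ ∈ irreducibleComponents X.left,
        Z₁ ≠ Z₂ ∧ img x ∈ Z₁ ∧ img x ∈ Z₂ := by
  constructor
  · intro hne
    obtain ⟨hs0, D₁, D₂, η₁, η₂, i, a₁, a₂, b₁, b₂, hcount⟩ := exists_two_generalizations he hs hrd h x hne
    have hs0' : s = 0 := by simpa using hs0
    refine ⟨_, closure_chart_mem he hs D₁ ⟨η₁, a₁⟩, _, closure_chart_mem he hs D₂ ⟨η₂, a₂⟩, fun heq => ?_,
      closure_mono (Set.singleton_subset_iff.2 a₁) b₁.mem_closure,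
      closure_mono (Set.singleton_subset_iff.2 a₂) b₂.mem_closure⟩
    obtain ⟨z, hz₁, hz₂⟩ := mem_closure_iff.1 (heq ▸ subset_closure a₁) _ (chartOpen D₁ he).2 a₁
    obtain ⟨K, _, _, y, rfl⟩ := exists_point_field z
    refine hcount ?_
    have hsK : algebraMap k K s = 0 := by rw [hs0', map_zero]
    rw [← finrank_map_of_cond hs hrd hsK (e _ y).2 ((img_mem_iff he D₁ y).1 hz₁) i,
      ← finrank_map_of_cond hs hrd hsK (e _ y).2 ((img_mem_iff he D₂ y).1 hz₂) i]
  · rintro ⟨Z₁, h₁, Z₂, h₂, hne, m₁, m₂⟩ hex
    obtain ⟨D, hD⟩ := (exact_iff_chart he hs hrd h x).1 hex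
    exact hne ((eq_closure_chart he hs D h₁ ⟨_, m₁, hD⟩).trans (eq_closure_chart he hs D h₂ ⟨_, m₂, hD⟩).symm)

theorem card_coord (D : ChartData d r n) : Nat.card (Coord D) = r * (d - r) := by
  classical
  have e₁ : Coord D ≃ Σ j : Fin r, {l : Fin d // ∀ a, D.σ (D.c j) a ≠ l} :=
    { toFun := fun p => ⟨p.1.1, p.1.2, p.2⟩
      invFun := fun q => ⟨(q.1, q.2.1), q.2.2⟩
      left_inv := fun p => rfl
      right_inv := fun q => rfl }
  rw [Nat.card_congr e₁, Nat.card_sigma]
  have h : ∀ j : Fin r, Nat.card {l : Fin d // ∀ a, D.σ (D.c j) a ≠ l} = d - r := fun j => by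
    rw [Nat.card_eq_fintype_card, Fintype.card_congr (Equiv.subtypeEquivRight
      (q := fun l => ¬ l ∈ Set.range (D.σ (D.c j))) fun l => by simp [eq_comm]),
      Fintype.card_subtype_compl, Fintype.card_fin]
    congr 1
    exact (Set.card_range_of_injective (D.σ_inj _)).trans (Fintype.card_fin r)
  simp only [h]
  simp

theorem topologicalKrullDim_open_spec {S : Type u} [CommRing S] [IsDomain S] [Algebra k S]
    [Algebra.FiniteType k S] (U : Opens (PrimeSpectrum S)) (hU : (U : Set (PrimeSpectrum S)).Nonempty) :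
    topologicalKrullDim U = ringKrullDim S := by
  let φ : Spec (CommRingCat.of S) ⟶ Spec (CommRingCat.of k) := Spec.map (CommRingCat.ofHom (algebraMap k S))
  have : LocallyOfFiniteType φ := (HasRingHomProperty.Spec_iff (P := @LocallyOfFiniteType)).2
    (RingHom.finiteType_algebraMap.2 inferInstance)
  rw [← PrimeSpectrum.topologicalKrullDim_eq_ringKrullDim]
  exact VarGal.topologicalKrullDim_open_eq φ U hU

include he hs hrd in
theorem topologicalKrullDim_component (h : Hyp f g k) {Z : Set X.left} (hZ : Z ∈ irreducibleComponents X.left) :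
    topologicalKrullDim Z = (r * (d - r) : ℕ) := by
  obtain ⟨D, hne⟩ := exists_chart_of_component he hs hrd h.of_ground hZ
  have hD : (chartOpen D he : Set X.left).Nonempty := hne.mono Set.inter_subset_right
  have := isProper_of_rep he
  have hle : (chartOpen D he : Set X.left) ⊆ Z := (eq_closure_chart he hs D hZ hne) ▸ subset_closure
  -- the dimension of the chart
  have hdimO : topologicalKrullDim ↥(chartOpen D he) = (r * (d - r) : ℕ) := by
    let h₀ := detProd D f g
    have hloc := PrimeSpectrum.localization_away_isOpenEmbedding (ChartRing D f g) h₀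
    rw [IsHomeomorph.topologicalKrullDim_eq _ (chartHomeo he hs D).isHomeomorph,
      IsHomeomorph.topologicalKrullDim_eq _ hloc.isEmbedding.toHomeomorph.isHomeomorph,
      PrimeSpectrum.localization_away_comap_range (ChartRing D f g) h₀]
    refine (topologicalKrullDim_open_spec (k := k) (PrimeSpectrum.basicOpen h₀) ?_).trans ?_
    · obtain ⟨z, hz⟩ := hD
      exact ⟨_, (PrimeSpectrum.localization_away_comap_range (ChartRing D f g) h₀).le
        ⟨chartHomeo he hs D ⟨z, hz⟩, rfl⟩⟩
    · rw [MvPolynomial.ringKrullDim_of_isNoetherianRing, ringKrullDim_eq_zero_of_field, card_coord]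
      simp
  -- the component as an integral scheme
  let Zc : Closeds X.left := ⟨Z, isClosed_of_mem_irreducibleComponents Z hZ⟩
  let I := Scheme.IdealSheafData.vanishingIdeal Zc
  have hr : Set.range I.subschemeι = Z := by
    rw [I.range_subschemeι, Scheme.IdealSheafData.coe_support_vanishingIdeal]; rfl
  have : IrreducibleSpace Z := Subtype.irreducibleSpace hZ.1
  let hem := I.subschemeι.isClosedEmbedding.isEmbedding
  let η : I.subscheme ≃ₜ Z := hem.toHomeomorph.trans (Homeomorph.setCongr hr)
  have : IrreducibleSpace I.subscheme := η.irreducibleSpace_iff.2 this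
  have hopen := VarGal.topologicalKrullDim_open_eq (I.subschemeι ≫ X.hom)
    (I.subschemeι ⁻¹ᵁ chartOpen D he) (by
      obtain ⟨z, hzZ, hzD⟩ := hne
      obtain ⟨y, hy⟩ := hr.ge hzZ
      exact ⟨y, show I.subschemeι y ∈ chartOpen D he from hy ▸ hzD⟩)
  rw [← IsHomeomorph.topologicalKrullDim_eq η η.isHomeomorph, ← hopen, ← hdimO]
  let U := I.subschemeι ⁻¹ᵁ chartOpen D he
  refine IsHomeomorph.topologicalKrullDim_eq (fun y => (⟨I.subschemeι (U.ι y), ?_⟩ : ↥(chartOpen D he))) ?_
  · have hy : U.ι y ∈ Set.range U.ι := ⟨y, rfl⟩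
    rw [Scheme.Opens.range_ι] at hy
    exact hy
  refine isHomeomorph_iff_isEmbedding_surjective.2 ⟨?_, fun z => ?_⟩
  · exact Topology.IsEmbedding.of_comp
      ((I.subschemeι.continuous.comp U.ι.continuous).subtype_mk _) continuous_subtype_val
      (hem.comp U.ι.isOpenEmbedding.isEmbedding)
  · obtain ⟨y, hy⟩ := hr.ge (hle z.2)
    have hyU : y ∈ Set.range U.ι := by
      rw [Scheme.Opens.range_ι]
      show I.subschemeι y ∈ chartOpen D he
      rw [hy]; exact z.2
    obtain ⟨y', rfl⟩ := hyU
    exact ⟨y', Subtype.ext hy⟩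

end Field

end Groth.Agent.LinkGr
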