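import Groth.Agent.LinkGr.Components
import Mathlib.RingTheory.LocalRing.ResidueField.Ideal
import Mathlib.RingTheory.MvPolynomial.Basic

/-!
Components of a linked Grassmannian over a domain.
-/

set_option autoImplicit false
set_option backward.isDefEq.respectTransparency false
universe u

open CategoryTheory CategoryTheory.Limits AlgebraicGeometry TopologicalSpace
open scoped TensorProduct
open Groth.Agent.Grass5 (bc bc_baseChange pt ptMap)

noncomputable section

namespace Groth.Agent.LinkGr

variable {R : Type u} [CommRing R] {d r n : ℕ}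
variable {f g : Fin n → ((Fin d → R) →ₗ[R] (Fin d → R))} {s : R}
variable {X : Over (Spec (CommRingCat.of R))}
variable {e : ∀ A : CommAlgCat.{u} R, (pt A ⟶ X) ≃ W4c1limliniiii.LGPoints R d r n f g A}

theorem Hyp.of_primes
    (h2 : ∀ (P : Ideal R) [P.IsPrime], ∀ i,
      d ≤ Module.finrank P.ResidueField (LinearMap.range ((f i).baseChange P.ResidueField)) +
        Module.finrank P.ResidueField (LinearMap.range ((g i).baseChange P.ResidueField)))
    (h3 : ∀ (P : Ideal R) [P.IsPrime], ∀ i j : Fin n, i.val + 1 = j.val →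
      LinearMap.range ((f i).baseChange P.ResidueField) ⊓
          LinearMap.ker ((f j).baseChange P.ResidueField) = ⊥ ∧
        LinearMap.range ((g j).baseChange P.ResidueField) ⊓
          LinearMap.ker ((g i).baseChange P.ResidueField) = ⊥)
    (K : Type u) [Field K] [Algebra R K] : Hyp f g K := by
  let P : Ideal R := RingHom.ker (algebraMap R K)
  have hP : P.IsPrime := RingHom.ker_isPrime _
  let φ : P.ResidueField →ₐ[R] K := Ideal.ResidueField.liftₐ P (Algebra.ofId R K) (fun x hx => hx)
    (fun x hx => isUnit_iff_ne_zero.2 fun h0 => hx h0)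
  exact (Hyp.of_statement (K := P.ResidueField) (h2 P) (h3 P)).map φ

variable (f g) in
/-- The transports of a family of vectors at position zero. -/
abbrev trans₀ {A : Type u} [CommRing A] [Algebra R A] (w : Fin r → A ⊗[R] (Fin d → R)) (i : Fin (n + 1)) :
    Fin r → A ⊗[R] (Fin d → R) :=
  trans f g (fun _ => (0 : Fin (n + 1))) w i

theorem linearIndependent_trans₀ (hs : IsLinked f g s) {K : Type u} [Field K] [Algebra R K]
    (hs0 : algebraMap R K s ≠ 0) {w : Fin r → K ⊗[R] (Fin d → R)} (hw : LinearIndependent K w)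
    (l : Fin (n + 1)) : LinearIndependent K (trans₀ f g w l) := by
  induction l using Fin.induction with
  | zero =>
    convert hw using 1
    funext j
    simp [trans, T_self]
  | succ i ih =>
    rw [Fintype.linearIndependent_iff] at ih ⊢
    intro a ha j
    have h0 : ∑ k, (a k * algebraMap R K s) • trans₀ f g w i.castSucc k = 0 := by
      refine Eq.trans ?_ ((congrArg ((g i).baseChange K) ha).trans (map_zero _))
      rw [map_sum]
      refine Finset.sum_congr rfl fun k _ => ?_
      rw [map_smul, mul_smul, g_trans_of_le hs _ w i k (Nat.zero_le _)]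
    exact (mul_eq_zero.1 (ih _ h0 j)).resolve_right hs0

theorem span_trans₀_eq (hs : IsLinked f g s) (hrd : r ≤ d) {K : Type u} [Field K] [Algebra R K]
    (hs0 : algebraMap R K s ≠ 0) {w : Fin r → K ⊗[R] (Fin d → R)} (hw : LinearIndependent K w)
    {V : Fin (n + 1) → Module.Grassmannian K (K ⊗[R] (Fin d → R)) (d - r)}
    (hV : V ∈ W4c1limliniiii.LGPoints R d r n f g K) (hmem : ∀ j, w j ∈ (V 0).toSubmodule) (l : Fin (n + 1)) :
    Submodule.span K (Set.range (trans₀ f g w l)) = (V l).toSubmodule := by
  refine Submodule.eq_of_le_of_finrank_le (Submodule.span_le.2 ?_) ?_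
  · rintro _ ⟨k, rfl⟩
    exact trans_mem (V := fun i => (V i).toSubmodule) hV hmem l k
  · rw [finrank_point hrd, finrank_span_eq_card (linearIndependent_trans₀ hs hs0 hw l), Fintype.card_fin]

variable [IsDomain R]

theorem algebraMap_ne_zero_of_injective {A : Type u} [CommRing A] [Algebra R A]
    (h : Function.Injective (algebraMap R A)) (hs0 : s ≠ 0) : algebraMap R A s ≠ 0 :=
  (map_ne_zero_iff _ h).2 hs0

theorem exists_nonempty_chart (he : IsNatRep e) (hs : IsLinked f g s) (hrd : r ≤ d) (hs0 : s ≠ 0) :
    ∃ D, (chartOpen D he : Set X.left).Nonempty := by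
  classical
  let K := FractionRing R
  have hsK : algebraMap R K s ≠ 0 := algebraMap_ne_zero_of_injective (IsFractionRing.injective R K) hs0
  let W : Fin r → K ⊗[R] (Fin d → R) := fun j => (crd K).symm (Pi.single (Fin.castLE hrd j) 1)
  have hW : LinearIndependent K W := by
    rw [Fintype.linearIndependent_iff]
    intro a ha j
    have h := congrArg (fun z => crd K z (Fin.castLE hrd j)) ha
    simpa [W, map_sum, Pi.single_apply, Fin.castLE_inj] using h
  have hrows : ∀ l, ∃ (σ : Fin r → Fin d) (v : Fin r → K ⊗[R] (Fin d → R)), Function.Injective σ ∧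
      (∀ j, v j ∈ Submodule.span K (Set.range (trans₀ f g W l))) ∧
      IsUnit (Matrix.of fun i j => crd K (v j) (σ i)).det := fun l =>
    exists_rows (crd K (R := R) (d := d))
      ((finrank_span_eq_card (linearIndependent_trans₀ hs hsK hW l)).trans (Fintype.card_fin r))
  choose σ v hσ hv hd using hrows
  let D₀ : ChartData d r n := ⟨fun _ => 0, σ, id, hσ⟩
  have hdet : ∀ l, IsUnit (mat D₀ l (trans₀ f g W l)).det := fun l => det_ne_zero_of_span D₀ l (hv l) (hd l)
  let V : W4c1limliniiii.LGPoints R d r n f g K := ⟨fun l => spanPoint D₀ l _ (hdet l), fun i => by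
    simp only [spanPoint_toSubmodule]
    exact map_span_trans_le hs _ W i⟩
  obtain ⟨D, hD⟩ := exists_cond_of_ne_zero hs hrd hsK V.2
  let x : pt (CommAlgCat.of R K) ⟶ X := (e (CommAlgCat.of R K)).symm V
  refine ⟨D, img x, (img_mem_iff he D x).2 ?_⟩
  rw [show e _ x = V from (e (CommAlgCat.of R K)).apply_symm_apply V]
  exact hD

variable (R d r) in
/-- The ring of generic vectors. -/
abbrev GenPoly : Type u := MvPolynomial (Fin r × Fin d) R

variable (R d r) in
/-- The generic vectors. -/
def genVec (j : Fin r) : GenPoly R d r ⊗[R] (Fin d → R) := (crd (GenPoly R d r)).symm fun q => MvPolynomial.X (j, q)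

theorem tot_genVec_ne_zero (he : IsNatRep e) (hs : IsLinked f g s) (hs0 : s ≠ 0) (D : ChartData d r n)
    (hne : (chartOpen D he : Set X.left).Nonempty) :
    tot D f g (fun i => trans₀ f g (genVec R d r) i) ≠ 0 := by
  classical
  have hh := detProd_ne_zero he hs D hne
  let K := FractionRing (Poly (R := R) D)
  let ι : Poly (R := R) D →ₐ[R] K := IsScalarTower.toAlgHom R (Poly (R := R) D) K
  have hι : Function.Injective ι := IsFractionRing.injective (Poly (R := R) D) K
  let w : Fin r → K ⊗[R] (Fin d → R) := wOf D fun p => ι (MvPolynomial.X p)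
  have hwd : ∀ i, IsUnit (mat D i (trans f g D.c w i)).det := fun i => by
    rw [mat_trans_bc D f g ι _ i]
    refine isUnit_iff_ne_zero.2 ((map_ne_zero_iff _ hι).2 fun h0 => hh ?_)
    exact Finset.prod_eq_zero (Finset.mem_univ i) h0
  obtain ⟨V, hV, hgen⟩ := exists_point_of_gen D hs w (fun j => proj_wOf D _ j) hwd
  let u₀ := trans f g D.c w 0
  have hs0K : algebraMap R K s ≠ 0 := by
    refine algebraMap_ne_zero_of_injective ?_ hs0
    rw [IsScalarTower.algebraMap_eq R (Poly (R := R) D) K]
    exact hι.comp (MvPolynomial.C_injective _ _)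
  have hu₀ : LinearIndependent K u₀ := linearIndependent_of_span (hgen.span_eq D hV 0).symm
    ((finrank_point D.le _).trans (Fintype.card_fin r).symm)
  let φ : GenPoly R d r →ₐ[R] K := MvPolynomial.aeval fun p => crd K (u₀ p.1) p.2
  have hφ : ∀ j, bc φ (genVec R d r j) = u₀ j := fun j => by
    apply (crd K).injective
    funext q
    rw [crd_bc, genVec, LinearEquiv.apply_symm_apply]
    exact MvPolynomial.aeval_X _ _
  have hv : ∀ i l, bc φ (trans₀ f g (genVec R d r) i l) = trans₀ f g u₀ i l := fun i l => by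
    rw [trans_map]
    exact congrArg (fun W => trans₀ f g W i l) (funext hφ)
  have hspan := span_trans₀_eq hs D.le hs0K hu₀ hV (fun j => trans_mem_point D hV hgen.mem 0 j)
  intro h0
  have h1 := hgen.isUnit_tot D hV (fun i => trans₀ f g u₀ i)
    (fun i l => hspan i ▸ Submodule.subset_span ⟨l, rfl⟩) fun i => by
      refine (det_ne_zero_of_span D i (v := trans f g D.c w i) (fun j => ?_) (hwd i)).ne_zero
      rw [hspan i]
      exact trans_mem_point D hV hgen.mem i j
  have h2 := tot_bc D f g φ (fun i => trans₀ f g (genVec R d r) i)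
  rw [h0, map_zero, funext fun i => funext (hv i)] at h2
  exact h1.ne_zero h2

theorem charts_meet (he : IsNatRep e) (hs : IsLinked f g s) (hs0 : s ≠ 0) (D₁ D₂ : ChartData d r n)
    (h₁ : (chartOpen D₁ he : Set X.left).Nonempty) (h₂ : (chartOpen D₂ he : Set X.left).Nonempty) :
    ((chartOpen D₁ he : Set X.left) ∩ chartOpen D₂ he).Nonempty := by
  classical
  let K := FractionRing (GenPoly R d r)
  let ι : GenPoly R d r →ₐ[R] K := IsScalarTower.toAlgHom R (GenPoly R d r) K
  have hι : Function.Injective ι := IsFractionRing.injective (GenPoly R d r) K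
  let W : Fin r → K ⊗[R] (Fin d → R) := fun j => bc ι (genVec R d r j)
  have hv : ∀ i l, bc ι (trans₀ f g (genVec R d r) i l) = trans₀ f g W i l := fun i l => trans_map ι _ _ i l
  have hu : ∀ D : ChartData d r n, (chartOpen D he : Set X.left).Nonempty →
      IsUnit (tot D f g fun i => trans₀ f g W i) := fun D hne => by
    have h := tot_bc D f g ι (fun i => trans₀ f g (genVec R d r) i)
    rw [funext fun i => funext (hv i)] at h
    rw [h, isUnit_iff_ne_zero, map_ne_zero_iff _ hι]
    exact tot_genVec_ne_zero he hs hs0 D hne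
  have hdet : ∀ i, IsUnit (mat D₁ i (trans₀ f g W i)).det := fun i =>
    IsUnit.prod_univ_iff.1 (isUnit_of_mul_isUnit_left (hu D₁ h₁)) i
  let V : W4c1limliniiii.LGPoints R d r n f g K := ⟨fun l => spanPoint D₁ l _ (hdet l), fun i => by
    simp only [spanPoint_toSubmodule]
    exact map_span_trans_le hs _ W i⟩
  let x : pt (CommAlgCat.of R K) ⟶ X := (e (CommAlgCat.of R K)).symm V
  have hx : e _ x = V := (e (CommAlgCat.of R K)).apply_symm_apply V
  have hmem : ∀ D : ChartData d r n, (chartOpen D he : Set X.left).Nonempty → img x ∈ chartOpen D he := by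
    intro D hne
    rw [img_mem_iff he D x, hx]
    refine cond_of_isUnit_tot D f g (fun i => trans₀ f g W i) (fun i l => ?_) (hu D hne)
    exact Submodule.subset_span ⟨l, rfl⟩
  exact ⟨img x, hmem D₁ h₁, hmem D₂ h₂⟩

theorem irreducibleSpace_of_ne_zero (he : IsNatRep e) (hs : IsLinked f g s) (hrd : r ≤ d)
    (hyp : ∀ (K : Type u) [Field K] [Algebra R K], Hyp f g K) (hs0 : s ≠ 0) : IrreducibleSpace X.left := by
  obtain ⟨D, hD⟩ := exists_nonempty_chart he hs hrd hs0
  have hC := closure_chart_mem he hs D hD
  have huniv : closure (chartOpen D he : Set X.left) = Set.univ := by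
    refine Set.eq_univ_of_forall fun z => ?_
    obtain ⟨D', η, hη, hsp⟩ := exists_chart_generalization he hs hrd hyp z
    obtain ⟨y, hy, hy'⟩ := charts_meet he hs hs0 D D' hD ⟨η, hη⟩
    have h := eq_closure_chart he hs D' hC ⟨y, subset_closure hy, hy'⟩
    rw [h]
    exact closure_mono (Set.singleton_subset_iff.2 hη) hsp.mem_closure
  have h : IsIrreducible (Set.univ : Set X.left) := huniv ▸ hC.1
  exact { isPreirreducible_univ := h.2, toNonempty := ⟨hD.some⟩ }

theorem component_surjective (he : IsNatRep e) (hs : IsLinked f g s) (hrd : r ≤ d)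
    (hyp : ∀ (K : Type u) [Field K] [Algebra R K], Hyp f g K) {Z : Set X.left}
    (hZ : Z ∈ irreducibleComponents X.left) : X.hom.base '' Z = Set.univ := by
  obtain ⟨D, hne⟩ := exists_chart_of_component he hs hrd hyp hZ
  have hD : (chartOpen D he : Set X.left).Nonempty := hne.mono Set.inter_subset_right
  have := isProper_of_rep he
  have hclosed : IsClosed (X.hom.base '' Z) :=
    X.hom.isClosedMap _ (isClosed_of_mem_irreducibleComponents Z hZ)
  have hdom := isDomain_chartRing he hs D hD
  obtain ⟨I⟩ := exists_chart_iso D he hs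
  let p₀ : PrimeSpectrum (ChartRing D f g) := ⟨⊥, Ideal.isPrime_bot⟩
  let z : X.left := (chartOpen D he).ι.base (I.inv.left.base p₀)
  have hzZ : z ∈ Z := by
    rw [eq_closure_chart he hs D hZ hne]
    refine subset_closure ?_
    have : z ∈ Set.range (chartOpen D he).ι := ⟨_, rfl⟩
    rwa [Scheme.Opens.range_ι] at this
  have hinj : Function.Injective (algebraMap R (ChartRing D f g)) := by
    rw [IsScalarTower.algebraMap_eq R (Poly (R := R) D) (ChartRing D f g)]
    exact (IsLocalization.injective (ChartRing D f g)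
      (powers_le_nonZeroDivisors_of_noZeroDivisors (detProd_ne_zero he hs D hD))).comp
      (MvPolynomial.C_injective _ _)
  have hbot : X.hom.base z = (⟨⊥, Ideal.isPrime_bot⟩ : PrimeSpectrum R) := by
    have h : X.hom.base z = (Spec.map (CommRingCat.ofHom (algebraMap R (ChartRing D f g)))).base p₀ :=
      congr($(Over.w I.inv).base p₀)
    rw [h]
    refine PrimeSpectrum.ext (Ideal.ext fun a => ?_)
    show algebraMap R (ChartRing D f g) a ∈ (⊥ : Ideal (ChartRing D f g)) ↔ a ∈ (⊥ : Ideal R)
    rw [Ideal.mem_bot, Ideal.mem_bot, map_eq_zero_iff _ hinj]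
  refine Set.eq_univ_of_forall fun q => ?_
  have hsp : (⟨⊥, Ideal.isPrime_bot⟩ : PrimeSpectrum R) ⤳ q := (PrimeSpectrum.le_iff_specializes _ _).1 bot_le
  exact hsp.mem_closed hclosed ⟨z, hzZ, hbot⟩

end Groth.Agent.LinkGr
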