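import Groth.Agent.LinkGr.Hyp
import Mathlib.Logic.Equiv.Fin.Basic
import Mathlib.LinearAlgebra.Matrix.Rank

/-!
Linked subspaces over a field: decomposition, exactness and counts.
-/

set_option autoImplicit false
set_option backward.isDefEq.respectTransparency false
universe u

open scoped TensorProduct

noncomputable section

namespace Groth.Agent.LinkGr

variable {R : Type u} [CommRing R] {d r n : ℕ}

section General

variable {K : Type u} [Field K] {M : Type u} [AddCommGroup M] [Module K M] [Module.Finite K M]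

theorem exists_complement {ι : Type*} {S N : Submodule K M} (hNS : N ≤ S)
    (E : ι → M) (hE : Submodule.span K (Set.range E) = S) :
    ∃ (m : ℕ) (a : Fin m → ι), m + Module.finrank K N = Module.finrank K S ∧
      S = N ⊔ Submodule.span K (Set.range (E ∘ a)) := by
  obtain ⟨v, hv, hspan, hli⟩ := Submodule.exists_fun_fin_finrank_span_eq K (N.mkQ '' Set.range E)
  choose z hz hz' using hv
  choose a ha using hz
  have hmap : Submodule.map N.mkQ S = Submodule.span K (N.mkQ '' Set.range E) := by
    rw [← hE, Submodule.map_span]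
  refine ⟨_, a, ?_, le_antisymm (fun x hx => ?_) (sup_le hNS ?_)⟩
  · have h1 := LinearMap.finrank_range_add_finrank_ker (N.mkQ.domRestrict S)
    rw [LinearMap.range_domRestrict, hmap] at h1
    have h2 : LinearMap.ker (N.mkQ.domRestrict S) = Submodule.comap S.subtype N := by
      rw [LinearMap.ker_domRestrict, Submodule.ker_mkQ]
    rw [h2, (Submodule.comapSubtypeEquivOfLe hNS).finrank_eq] at h1
    exact h1
  · have hx' : N.mkQ x ∈ Submodule.span K (Set.range v) := by rw [hspan, ← hmap]; exact Submodule.mem_map_of_mem hx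
    have hr : Set.range v = N.mkQ '' Set.range (E ∘ a) := by
      exact (congrArg Set.range (funext fun j => ((congrArg N.mkQ (ha j)).trans (hz' j)).symm)).trans
        (Set.range_comp N.mkQ (E ∘ a))
    rw [hr, ← Submodule.map_span] at hx'
    obtain ⟨y, hy, hyx⟩ := hx'
    refine Submodule.mem_sup.2 ⟨x - y, (Submodule.Quotient.eq N).1 hyx.symm, y, hy, by abel⟩
  · rw [Submodule.span_le]
    rintro _ ⟨j, rfl⟩
    exact hE ▸ Submodule.subset_span ⟨a j, rfl⟩

theorem exists_rows (e : M ≃ₗ[K] (Fin d → K)) {P : Submodule K M} (hP : Module.finrank K P = r) :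
    ∃ (σ : Fin r → Fin d) (v : Fin r → M), Function.Injective σ ∧ (∀ j, v j ∈ P) ∧
      IsUnit (Matrix.of fun l j => e (v j) (σ l)).det := by
  obtain ⟨v, hv, hli⟩ : ∃ v : Fin r → M, (∀ j, v j ∈ P) ∧ LinearIndependent K v := by
    obtain ⟨v, hv, -, hli⟩ := Submodule.exists_fun_fin_finrank_span_eq K (P : Set M)
    have hP' : r = Module.finrank K (Submodule.span K (P : Set M)) := by rw [Submodule.span_eq, hP]
    exact ⟨v ∘ Fin.cast hP', fun j => hv _, hli.comp _ (Fin.cast_injective hP')⟩
  have he : LinearIndependent K fun j => e (v j) := hli.map' e.toLinearMap (LinearEquiv.ker _)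
  let N : Matrix (Fin d) (Fin r) K := Matrix.of fun k j => e (v j) k
  have hrank : N.rank = r := by
    rw [Matrix.rank_eq_finrank_span_cols]
    exact (finrank_span_eq_card he).trans (Fintype.card_fin _)
  rw [Matrix.rank_eq_finrank_span_row] at hrank
  obtain ⟨f, hf, -, hli'⟩ := Submodule.exists_fun_fin_finrank_span_eq K (Set.range N.row)
  choose σ hσ using hf
  have hli'' : LinearIndependent K fun l : Fin r => N.row (σ (Fin.cast hrank.symm l)) := by
    simp only [hσ]
    exact hli'.comp _ (Fin.cast_injective hrank.symm)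
  refine ⟨fun l => σ (Fin.cast hrank.symm l), v, fun a b h => ?_, hv, ?_⟩
  · exact hli''.injective (by simp only at h ⊢; rw [h])
  · exact (Matrix.isUnit_iff_isUnit_det _).1 (Matrix.linearIndependent_rows_iff_isUnit.1 hli'')

theorem finrank_map_add_ker (a : M →ₗ[K] M) (P : Submodule K M) :
    Module.finrank K (Submodule.map a P) + Module.finrank K (LinearMap.ker a ⊓ P : Submodule K M) =
      Module.finrank K P := by
  have h1 := LinearMap.finrank_range_add_finrank_ker (a.domRestrict P)
  rw [LinearMap.range_domRestrict, LinearMap.ker_domRestrict] at h1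
  have e : Submodule.comap P.subtype (LinearMap.ker a) = Submodule.comap P.subtype (LinearMap.ker a ⊓ P) := by
    ext z; simp
  rw [e, (Submodule.comapSubtypeEquivOfLe (inf_le_right : LinearMap.ker a ⊓ P ≤ P)).finrank_eq] at h1
  exact h1

theorem linearIndependent_of_span {ι : Type} [Fintype ι] {v : ι → M} {P : Submodule K M}
    (hP : Submodule.span K (Set.range v) = P) (hd : Module.finrank K P = Fintype.card ι) : LinearIndependent K v :=
  linearIndependent_iff_card_eq_finrank_span.2 (by rw [Set.finrank, hP, hd])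

end General

variable (f g : Fin n → ((Fin d → R) →ₗ[R] (Fin d → R)))

section Fam

variable {A : Type u} [CommRing A] [Algebra R A]

theorem T_succ_left_of_le {c : ℕ} (e : Fin n) (h : c = e.val) (i : ℕ) (hi : e.val + 1 ≤ i) (hin : i ≤ n) :
    T f g c i = (T f g (e.val + 1) i).comp (f e) := by
  subst h
  induction i with
  | zero => omega
  | succ i ih =>
    rcases Nat.lt_or_eq_of_le hi with h | h
    · rw [T_succ f g ⟨i, by omega⟩ (by simp only; omega), ih (by omega) (by omega),
        T_succ f g ⟨i, by omega⟩ (by simp only; omega), LinearMap.comp_assoc]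
    · obtain rfl : e.val = i := by omega
      rw [T_succ f g e le_rfl, T_self, T_self, LinearMap.comp_id, LinearMap.id_comp]

theorem T_pred_left_of_le (e : Fin n) (i : ℕ) (hi : i ≤ e.val) :
    T f g (e.val + 1) i = (T f g e.val i).comp (g e) := by
  obtain ⟨m, hm⟩ := Nat.exists_eq_add_of_le hi
  induction m generalizing i with
  | zero =>
    obtain rfl : i = e.val := by omega
    rw [T_pred f g e (by omega), T_self, T_self, LinearMap.comp_id, LinearMap.id_comp]
  | succ m ih =>
    rw [T_pred f g ⟨i, by omega⟩ (by simp only; omega), ih (i + 1) (by omega) (by omega),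
      T_pred f g ⟨i, by omega⟩ (c := e.val) (by simp only; omega), LinearMap.comp_assoc]

/-- A family mixing generators and linked pairs of vectors at consecutive positions. -/
def fam {W P : Type} (cW : W → Fin (n + 1)) (w : W → A ⊗[R] (Fin d → R)) (ed : P → Fin n)
    (xx yy : P → A ⊗[R] (Fin d → R)) (l : Fin (n + 1)) : W ⊕ P → A ⊗[R] (Fin d → R) :=
  Sum.elim (fun k => (T f g (cW k).val l.val).baseChange A (w k))
    fun p => if l.val ≤ (ed p).val then (T f g (ed p).val l.val).baseChange A (yy p)
      else (T f g ((ed p).val + 1) l.val).baseChange A (xx p)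

variable {f g}

theorem map_span_fam_le {s : R} (hs : IsLinked f g s) (hs0 : algebraMap R A s = 0) {W P : Type}
    (cW : W → Fin (n + 1)) (w : W → A ⊗[R] (Fin d → R)) (ed : P → Fin n) (xx yy : P → A ⊗[R] (Fin d → R))
    (α β : A) (hF : ∀ p, (f (ed p)).baseChange A (yy p) = α • xx p)
    (hG : ∀ p, (g (ed p)).baseChange A (xx p) = β • yy p) (i : Fin n) :
    Submodule.map ((f i).baseChange A) (Submodule.span A (Set.range (fam f g cW w ed xx yy i.castSucc))) ≤
        Submodule.span A (Set.range (fam f g cW w ed xx yy i.succ)) ∧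
      Submodule.map ((g i).baseChange A) (Submodule.span A (Set.range (fam f g cW w ed xx yy i.succ))) ≤
        Submodule.span A (Set.range (fam f g cW w ed xx yy i.castSucc)) := by
  have hup : ∀ (c : ℕ) (z : A ⊗[R] (Fin d → R)), c ≤ i.val → (f i).baseChange A ((T f g c i.val).baseChange A z) =
      (T f g c (i.val + 1)).baseChange A z := fun c z h => by
    rw [T_succ f g i h, LinearMap.baseChange_comp]; rfl
  have hup0 : ∀ (c : ℕ) (z : A ⊗[R] (Fin d → R)), i.val < c →
      (f i).baseChange A ((T f g c i.val).baseChange A z) = 0 := fun c z h => by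
    rw [← LinearMap.comp_apply, ← LinearMap.baseChange_comp, f_T_of_lt hs i h, LinearMap.baseChange_smul,
      LinearMap.smul_apply, ← algebraMap_smul A s, hs0, zero_smul]
  have hdn : ∀ (c : ℕ) (z : A ⊗[R] (Fin d → R)), i.val < c →
      (g i).baseChange A ((T f g c (i.val + 1)).baseChange A z) = (T f g c i.val).baseChange A z := fun c z h => by
    rw [T_pred f g i h, LinearMap.baseChange_comp]; rfl
  have hdn0 : ∀ (c : ℕ) (z : A ⊗[R] (Fin d → R)), c ≤ i.val →
      (g i).baseChange A ((T f g c (i.val + 1)).baseChange A z) = 0 := fun c z h => by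
    rw [← LinearMap.comp_apply, ← LinearMap.baseChange_comp, g_T_of_le hs i h, LinearMap.baseChange_smul,
      LinearMap.smul_apply, ← algebraMap_smul A s, hs0, zero_smul]
  constructor
  · rw [Submodule.map_span_le]
    rintro _ ⟨j, rfl⟩
    have hmem : fam f g cW w ed xx yy i.succ j ∈ Submodule.span A (Set.range (fam f g cW w ed xx yy i.succ)) :=
      Submodule.subset_span ⟨j, rfl⟩
    rcases j with k | p
    · simp only [fam, Sum.elim_inl, Fin.val_castSucc, Fin.val_succ] at hmem ⊢
      by_cases h : (cW k).val ≤ i.val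
      · rw [hup _ _ h]; exact hmem
      · rw [hup0 _ _ (not_le.1 h)]; exact zero_mem _
    · simp only [fam, Sum.elim_inr, Fin.val_castSucc, Fin.val_succ] at hmem ⊢
      by_cases h : i.val ≤ (ed p).val
      · rw [if_pos h]
        rcases Nat.lt_or_eq_of_le h with h' | h'
        · rw [hup0 _ _ h']; exact zero_mem _
        · obtain rfl : i = ed p := Fin.ext h'
          rw [if_neg (by omega), T_self, LinearMap.baseChange_id] at hmem
          rw [T_self, LinearMap.baseChange_id, LinearMap.id_apply, hF]
          exact Submodule.smul_mem _ _ hmem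
      · rw [if_neg h, hup _ _ (by omega)]
        rwa [if_neg (by omega)] at hmem
  · rw [Submodule.map_span_le]
    rintro _ ⟨j, rfl⟩
    have hmem : fam f g cW w ed xx yy i.castSucc j ∈
        Submodule.span A (Set.range (fam f g cW w ed xx yy i.castSucc)) := Submodule.subset_span ⟨j, rfl⟩
    rcases j with k | p
    · simp only [fam, Sum.elim_inl, Fin.val_castSucc, Fin.val_succ] at hmem ⊢
      by_cases h : (cW k).val ≤ i.val
      · rw [hdn0 _ _ h]; exact zero_mem _
      · rw [hdn _ _ (not_le.1 h)]; exact hmem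
    · simp only [fam, Sum.elim_inr, Fin.val_castSucc, Fin.val_succ] at hmem ⊢
      by_cases h : i.val + 1 ≤ (ed p).val
      · rw [if_pos h, hdn _ _ (by omega)]
        rwa [if_pos (by omega)] at hmem
      · rw [if_neg h]
        rcases Nat.lt_or_eq_of_le (not_le.1 h : (ed p).val < i.val + 1) with h' | h'
        · rw [hdn0 _ _ (by omega)]; exact zero_mem _
        · obtain rfl : i = ed p := Fin.ext (by omega)
          rw [if_pos le_rfl, T_self, LinearMap.baseChange_id] at hmem
          rw [T_self, LinearMap.baseChange_id, LinearMap.id_apply, hG]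
          exact Submodule.smul_mem _ _ hmem

end Fam

variable {f g}
variable {K : Type u} [Field K] [Algebra R K]

variable (f g) in
/-- Linked families of subspaces. -/
def LinkedSub (V : Fin (n + 1) → Submodule K (K ⊗[R] (Fin d → R))) : Prop :=
  ∀ i : Fin n, Submodule.map ((f i).baseChange K) (V i.castSucc) ≤ V i.succ ∧
    Submodule.map ((g i).baseChange K) (V i.succ) ≤ V i.castSucc

variable (f g) in
/-- The decomposition of a linked family of subspaces over a field where the scalar vanishes. -/
structure Decomp (r : ℕ) (V : Fin (n + 1) → Submodule K (K ⊗[R] (Fin d → R))) where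
  σ : Fin (n + 1) → Fin r → Fin d
  σ_inj : ∀ l, Function.Injective (σ l)
  W : Type
  [finW : Fintype W]
  P : Type
  [finP : Fintype P]
  cW : W → Fin (n + 1)
  aW : W → Fin r
  w : W → K ⊗[R] (Fin d → R)
  w_mem : ∀ k, w k ∈ V (cW k)
  w_norm : ∀ k l, crd K (w k) (σ (cW k) l) = if l = aW k then 1 else 0
  ed : P → Fin n
  x : P → K ⊗[R] (Fin d → R)
  y : P → K ⊗[R] (Fin d → R)
  x_mem : ∀ p, x p ∈ V (ed p).succ
  y_mem : ∀ p, y p ∈ V (ed p).castSucc
  gx : ∀ p, (g (ed p)).baseChange K (x p) = 0
  fy : ∀ p, (f (ed p)).baseChange K (y p) = 0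
  card : Fintype.card W + Fintype.card P = r
  span : ∀ l, Submodule.span K (Set.range (fam f g cW w ed x y l)) = V l
  vec : ∀ l, ∃ v : Fin r → K ⊗[R] (Fin d → R), (∀ j, v j ∈ V l) ∧
    IsUnit (Matrix.of fun i j => crd K (v j) (σ l i)).det
  exact_iff : (∀ i : Fin n,
      LinearMap.ker ((g i).baseChange K) ⊓ V i.succ ≤ Submodule.map ((f i).baseChange K) (V i.castSucc) ∧
      LinearMap.ker ((f i).baseChange K) ⊓ V i.castSucc ≤ Submodule.map ((g i).baseChange K) (V i.succ)) →
      IsEmpty P

attribute [instance] Decomp.finW Decomp.finP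

theorem nonempty_decomp (h : Hyp f g K) {s : R} (hs : IsLinked f g s) (hs0 : algebraMap R K s = 0)
    {V : Fin (n + 1) → Submodule K (K ⊗[R] (Fin d → R))} (hV : LinkedSub f g V)
    (hdim : ∀ l, Module.finrank K (V l) = r) : Nonempty (Decomp f g r V) := by
  classical
  let Kd : Fin n → Submodule K (K ⊗[R] (Fin d → R)) := fun i => LinearMap.ker ((g i).baseChange K) ⊓ V i.succ
  let Ld : Fin n → Submodule K (K ⊗[R] (Fin d → R)) := fun i => LinearMap.ker ((f i).baseChange K) ⊓ V i.castSucc
  let Nl : Fin (n + 1) → Submodule K (K ⊗[R] (Fin d → R)) := Fin.cases ⊥ Kd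
  let Nr : Fin (n + 1) → Submodule K (K ⊗[R] (Fin d → R)) := Fin.lastCases ⊥ Ld
  have hAK : ∀ i, Submodule.map ((f i).baseChange K) (V i.castSucc) ≤ Kd i := fun i =>
    le_inf ((LinearMap.map_le_range).trans (h.range_f_eq hs hs0 i).le) (hV i).1
  have hBL : ∀ i, Submodule.map ((g i).baseChange K) (V i.succ) ≤ Ld i := fun i =>
    le_inf ((LinearMap.map_le_range).trans (h.range_g_eq hs hs0 i).le) (hV i).2
  have hNl : ∀ l, Nl l ≤ V l := Fin.cases bot_le fun i => by simp [Nl, Kd]
  have hNr : ∀ l, Nr l ≤ V l := Fin.lastCases (by simp [Nr]) fun i => by simp [Nr, Ld]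
  have hdis : ∀ l, Nl l ⊓ Nr l = ⊥ := by
    refine Fin.cases (by simp [Nl]) fun i => ?_
    by_cases hi : i.val + 1 < n
    · have hl : i.succ = (⟨i.val + 1, hi⟩ : Fin n).castSucc := Fin.ext rfl
      rw [eq_bot_iff, ← h.inf_fwd (i := i) (j := ⟨i.val + 1, hi⟩) rfl, h.range_f_eq hs hs0 i]
      simp only [Nl, Fin.cases_succ]
      rw [hl]
      simp only [Nr, Fin.lastCases_castSucc]
      exact inf_le_inf inf_le_left inf_le_left
    · have hl : i.succ = Fin.last n := Fin.ext (by simp; omega)
      rw [hl]
      simp [Nr]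
  have hrows : ∀ l, ∃ (σ : Fin r → Fin d) (v : Fin r → K ⊗[R] (Fin d → R)), Function.Injective σ ∧
      (∀ j, v j ∈ V l) ∧ IsUnit (Matrix.of fun i j => crd K (v j) (σ i)).det := fun l => exists_rows (crd K (R := R) (d := d)) (hdim l)
  choose σ v hσ hv hdet using hrows
  let E : Fin (n + 1) → Fin r → K ⊗[R] (Fin d → R) := fun l a =>
    ∑ j, (Matrix.of fun i j => crd K (v l j) (σ l i))⁻¹ j a • v l j
  have hEV : ∀ l a, E l a ∈ V l := fun l a => sum_mem fun j _ => Submodule.smul_mem _ _ (hv l j)
  have hEn : ∀ l a i, crd K (E l a) (σ l i) = if i = a then 1 else 0 := fun l a i => by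
    have := congrFun (congrFun (Matrix.mul_nonsing_inv _ (hdet l)) i) a
    rw [Matrix.one_apply] at this
    rw [← this]
    simp [E, Matrix.mul_apply, mul_comm]
  have hEspan : ∀ l, Submodule.span K (Set.range (E l)) = V l := fun l => by
    refine Submodule.eq_of_le_of_finrank_le (Submodule.span_le.2 (by rintro _ ⟨a, rfl⟩; exact hEV l a)) ?_
    rw [hdim, finrank_span_eq_card (R := K) (b := E l) ?_, Fintype.card_fin]
    rw [Fintype.linearIndependent_iff]
    intro x hx i
    have := congrArg (fun z => crd K z (σ l i)) hx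
    simpa [map_sum, hEn] using this
  choose mW aW hmW hsW using fun l => exists_complement (sup_le (hNl l) (hNr l)) (E l) (hEspan l)
  choose mX ax hmX hsX using fun i => exists_complement (hAK i)
    (fun z : Kd i => (z : K ⊗[R] (Fin d → R))) (Subtype.range_coe.symm ▸ Submodule.span_eq (Kd i))
  choose mY ay hmY hsY using fun i => exists_complement (hBL i)
    (fun z : Ld i => (z : K ⊗[R] (Fin d → R))) (Subtype.range_coe.symm ▸ Submodule.span_eq (Ld i))
  have hrn1 : ∀ i, Module.finrank K (Submodule.map ((f i).baseChange K) (V i.castSucc)) +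
      Module.finrank K (Ld i) = r := fun i => (finrank_map_add_ker _ _).trans (hdim _)
  have hrn2 : ∀ i, Module.finrank K (Submodule.map ((g i).baseChange K) (V i.succ)) +
      Module.finrank K (Kd i) = r := fun i => (finrank_map_add_ker _ _).trans (hdim _)
  have hXY : ∀ i, mX i = mY i := fun i => by
    have := hmX i; have := hmY i; have := hrn1 i; have := hrn2 i
    omega
  have hN : ∀ l, Module.finrank K (Nl l ⊔ Nr l : Submodule K _) = Module.finrank K (Nl l) + Module.finrank K (Nr l) :=
    fun l => by
      have := Submodule.finrank_sup_add_finrank_inf_eq (Nl l) (Nr l)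
      rw [hdis, finrank_bot] at this
      omega
  have hcard : ∑ l, mW l + ∑ i, mX i = r := by
    have h1 : ∑ l, (mW l + (Module.finrank K (Nl l) + Module.finrank K (Nr l))) = (n + 1) * r := by
      rw [Finset.sum_congr rfl fun l _ => (by rw [← hN l]; exact (hmW l).trans (hdim l) :
        mW l + (Module.finrank K (Nl l) + Module.finrank K (Nr l)) = r)]
      simp
    rw [Finset.sum_add_distrib, Finset.sum_add_distrib, Fin.sum_univ_succ (f := fun l => Module.finrank K (Nl l)),
      Fin.sum_univ_castSucc (f := fun l => Module.finrank K (Nr l))] at h1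
    have e1 : Module.finrank K (Nl 0) = 0 := by simp [Nl]
    have e2 : Module.finrank K (Nr (Fin.last n)) = 0 := by simp [Nr]
    have e3 : ∀ i : Fin n, Module.finrank K (Nl i.succ) = Module.finrank K (Kd i) := fun i => by simp [Nl]
    have hnr : ∀ i : Fin n, Nr i.castSucc = Ld i := fun i => Fin.lastCases_castSucc i
    have e4 : ∀ i : Fin n, Module.finrank K (Nr i.castSucc) = Module.finrank K (Ld i) := fun i => by rw [hnr]
    rw [Finset.sum_congr rfl fun i _ => e3 i, Finset.sum_congr rfl fun i _ => e4 i, e1, e2] at h1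
    have h2 : ∑ i, mX i + ∑ i, Module.finrank K (Submodule.map ((f i).baseChange K) (V i.castSucc)) =
        ∑ i, Module.finrank K (Kd i) := by
      rw [← Finset.sum_add_distrib]; exact Finset.sum_congr rfl fun i _ => hmX i
    have h3 : ∑ i, Module.finrank K (Submodule.map ((f i).baseChange K) (V i.castSucc)) +
        ∑ i, Module.finrank K (Ld i) = n * r := by
      rw [← Finset.sum_add_distrib, Finset.sum_congr rfl fun i _ => hrn1 i]; simp
    rw [add_mul, one_mul] at h1
    omega
  let cW : (Σ l, Fin (mW l)) → Fin (n + 1) := fun k => k.1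
  let w : (Σ l, Fin (mW l)) → K ⊗[R] (Fin d → R) := fun k => E k.1 (aW k.1 k.2)
  let ed : (Σ i, Fin (mX i)) → Fin n := fun p => p.1
  let x : (Σ i, Fin (mX i)) → K ⊗[R] (Fin d → R) := fun p => (ax p.1 p.2).1
  let y : (Σ i, Fin (mX i)) → K ⊗[R] (Fin d → R) := fun p => (ay p.1 (Fin.cast (hXY p.1) p.2)).1
  have hgx : ∀ p, (g (ed p)).baseChange K (x p) = 0 := fun p => (ax p.1 p.2).2.1
  have hfy : ∀ p, (f (ed p)).baseChange K (y p) = 0 := fun p => (ay p.1 _).2.1
  let S : Fin (n + 1) → Submodule K (K ⊗[R] (Fin d → R)) := fun l => Submodule.span K (Set.range (fam f g cW w ed x y l))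
  have hlink := map_span_fam_le hs hs0 cW w ed x y 0 0 (fun p => by rw [hfy, zero_smul])
    (fun p => by rw [hgx, zero_smul])
  have hwS : ∀ k, w k ∈ S (cW k) := fun k => Submodule.subset_span ⟨Sum.inl k, by simp [fam, T_self]⟩
  have hxS : ∀ p, x p ∈ S (ed p).succ := fun p => Submodule.subset_span ⟨Sum.inr p, by simp [fam, T_self]⟩
  have hyS : ∀ p, y p ∈ S (ed p).castSucc := fun p => Submodule.subset_span ⟨Sum.inr p, by simp [fam, T_self]⟩
  have hWS : ∀ l, Submodule.span K (Set.range (E l ∘ aW l)) ≤ S l := fun l => by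
    rw [Submodule.span_le]
    rintro _ ⟨k, rfl⟩
    exact hwS ⟨l, k⟩
  have hXS : ∀ i, Submodule.span K (Set.range ((fun z : Kd i => (z : K ⊗[R] (Fin d → R))) ∘ ax i)) ≤ S i.succ :=
    fun i => by
    rw [Submodule.span_le]
    rintro _ ⟨k, rfl⟩
    exact hxS ⟨i, k⟩
  have hYS : ∀ i, Submodule.span K (Set.range ((fun z : Ld i => (z : K ⊗[R] (Fin d → R))) ∘ ay i)) ≤ S i.castSucc :=
    fun i => by
    rw [Submodule.span_le]
    rintro _ ⟨k, rfl⟩
    simpa [y, ed] using hyS ⟨i, Fin.cast (hXY i).symm k⟩
  have hKS : ∀ l, Nl l ≤ S l := by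
    intro l
    induction l using Fin.induction with
    | zero => simp [Nl]
    | succ i ih =>
      simp only [Nl, Fin.cases_succ]
      rw [hsX i]
      refine sup_le ?_ (hXS i)
      rw [hsW i.castSucc, Submodule.map_sup, Submodule.map_sup]
      refine sup_le (sup_le ((Submodule.map_mono ih).trans (hlink i).1) ?_)
        ((Submodule.map_mono (hWS _)).trans (hlink i).1)
      rw [Submodule.map_le_iff_le_comap]
      intro z hz
      simp only [Nr, Fin.lastCases_castSucc] at hz
      have hz0 : (f i).baseChange K z = 0 := hz.1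
      show (f i).baseChange K z ∈ S i.succ
      rw [hz0]
      exact zero_mem _
  have hLS : ∀ l, Nr l ≤ S l := by
    intro l
    induction l using Fin.reverseInduction with
    | last => simp [Nr]
    | cast i ih =>
      simp only [Nr, Fin.lastCases_castSucc]
      rw [hsY i]
      refine sup_le ?_ (hYS i)
      rw [hsW i.succ, Submodule.map_sup, Submodule.map_sup]
      refine sup_le (sup_le ?_ ((Submodule.map_mono ih).trans (hlink i).2))
        ((Submodule.map_mono (hWS _)).trans (hlink i).2)
      rw [Submodule.map_le_iff_le_comap]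
      intro z hz
      simp only [Nl, Fin.cases_succ] at hz
      have hz0 : (g i).baseChange K z = 0 := hz.1
      show (g i).baseChange K z ∈ S i.castSucc
      rw [hz0]
      exact zero_mem _
  refine ⟨{
    σ := σ, σ_inj := hσ, W := Σ l, Fin (mW l), P := Σ i, Fin (mX i), cW := cW, aW := fun k => aW k.1 k.2, w := w
    w_mem := fun k => hEV _ _
    w_norm := fun k i => hEn _ _ _
    ed := ed, x := x, y := y
    x_mem := fun p => (ax p.1 p.2).2.2
    y_mem := fun p => (ay p.1 _).2.2
    gx := hgx, fy := hfy
    card := by simpa using hcard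
    span := fun l => le_antisymm ?_ ?_
    vec := fun l => ⟨v l, hv l, hdet l⟩
    exact_iff := fun hex => ⟨fun p => ?_⟩ }⟩
  · rw [Submodule.span_le]
    rintro _ ⟨j, rfl⟩
    rcases j with k | p
    · exact T_apply_mem (V := V) hV (hEV _ _) l
    · simp only [fam, Sum.elim_inr]
      split_ifs with hl
      · exact T_apply_mem (V := V) (c := (ed p).castSucc) hV (ay p.1 _).2.2 l
      · exact T_apply_mem (V := V) (c := (ed p).succ) hV (ax p.1 p.2).2.2 l
  · rw [hsW l]
    exact sup_le (sup_le (hKS l) (hLS l)) (hWS l)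
  · have h1 : Kd p.1 ≤ Submodule.map ((f p.1).baseChange K) (V p.1.castSucc) := (hex p.1).1
    have h2 := Submodule.finrank_mono h1
    have := hmX p.1
    have := p.2.pos
    omega

theorem linearIndependent_trans {V : Fin (n + 1) → Submodule K (K ⊗[R] (Fin d → R))}
    (hdim : ∀ l, Module.finrank K (V l) = r) {c : Fin r → Fin (n + 1)} {w : Fin r → K ⊗[R] (Fin d → R)}
    (hspan : ∀ l, Submodule.span K (Set.range (trans f g c w l)) = V l) (l : Fin (n + 1)) :
    LinearIndependent K (trans f g c w l) :=
  linearIndependent_of_span (hspan l) ((hdim l).trans (Fintype.card_fin r).symm)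

theorem exact_of_span {s : R} (hs : IsLinked f g s) {V : Fin (n + 1) → Submodule K (K ⊗[R] (Fin d → R))}
    (hdim : ∀ l, Module.finrank K (V l) = r) {c : Fin r → Fin (n + 1)} {w : Fin r → K ⊗[R] (Fin d → R)}
    (hspan : ∀ l, Submodule.span K (Set.range (trans f g c w l)) = V l) (i : Fin n) :
    LinearMap.ker ((g i).baseChange K) ⊓ V i.succ ≤ Submodule.map ((f i).baseChange K) (V i.castSucc) ∧
      LinearMap.ker ((f i).baseChange K) ⊓ V i.castSucc ≤ Submodule.map ((g i).baseChange K) (V i.succ) := by
  classical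
  constructor
  · rintro z ⟨hz, hzV⟩
    rw [← hspan, SetLike.mem_coe, Submodule.mem_span_range_iff_exists_fun] at hzV
    obtain ⟨a, rfl⟩ := hzV
    have h0 : ∑ j, (a j * if (c j).val ≤ i.val then algebraMap R K s else 1) • trans f g c w i.castSucc j = 0 := by
      refine Eq.trans ?_ (hz : (g i).baseChange K (∑ j, a j • trans f g c w i.succ j) = 0)
      rw [map_sum]
      refine Finset.sum_congr rfl fun j _ => ?_
      rw [map_smul, mul_smul]
      by_cases h : (c j).val ≤ i.val
      · rw [if_pos h, g_trans_of_le hs c w i j h]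
      · rw [if_neg h, one_smul, g_trans_of_lt f g c w i j (not_le.1 h)]
    have ha := Fintype.linearIndependent_iff.1 (linearIndependent_trans hdim hspan i.castSucc) _ h0
    refine sum_mem fun j _ => ?_
    by_cases h : (c j).val ≤ i.val
    · refine Submodule.smul_mem _ _ ⟨trans f g c w i.castSucc j, ?_, f_trans_of_le f g c w i j h⟩
      rw [← hspan]; exact Submodule.subset_span ⟨j, rfl⟩
    · have h' : a j = 0 := by simpa [h] using ha j
      rw [h', zero_smul]; exact zero_mem _
  · rintro z ⟨hz, hzV⟩
    rw [← hspan, SetLike.mem_coe, Submodule.mem_span_range_iff_exists_fun] at hzV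
    obtain ⟨a, rfl⟩ := hzV
    have h0 : ∑ j, (a j * if (c j).val ≤ i.val then 1 else algebraMap R K s) • trans f g c w i.succ j = 0 := by
      refine Eq.trans ?_ (hz : (f i).baseChange K (∑ j, a j • trans f g c w i.castSucc j) = 0)
      rw [map_sum]
      refine Finset.sum_congr rfl fun j _ => ?_
      rw [map_smul, mul_smul]
      by_cases h : (c j).val ≤ i.val
      · rw [if_pos h, one_smul, f_trans_of_le f g c w i j h]
      · rw [if_neg h, f_trans_of_lt hs c w i j (not_le.1 h)]
    have ha := Fintype.linearIndependent_iff.1 (linearIndependent_trans hdim hspan i.succ) _ h0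
    refine sum_mem fun j _ => ?_
    by_cases h : (c j).val ≤ i.val
    · have h' : a j = 0 := by simpa [h] using ha j
      rw [h', zero_smul]; exact zero_mem _
    · refine Submodule.smul_mem _ _ ⟨trans f g c w i.succ j, ?_, g_trans_of_lt f g c w i j (not_le.1 h)⟩
      rw [← hspan]; exact Submodule.subset_span ⟨j, rfl⟩

theorem finrank_map_eq_card {s : R} (hs : IsLinked f g s) (hs0 : algebraMap R K s = 0)
    {V : Fin (n + 1) → Submodule K (K ⊗[R] (Fin d → R))}
    (hdim : ∀ l, Module.finrank K (V l) = r) {c : Fin r → Fin (n + 1)} {w : Fin r → K ⊗[R] (Fin d → R)}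
    (hspan : ∀ l, Submodule.span K (Set.range (trans f g c w l)) = V l) (i : Fin n) :
    Module.finrank K (Submodule.map ((f i).baseChange K) (V i.castSucc)) =
      Fintype.card {j : Fin r // (c j).val ≤ i.val} := by
  have h : Submodule.map ((f i).baseChange K) (V i.castSucc) =
      Submodule.span K (Set.range fun j : {j : Fin r // (c j).val ≤ i.val} => trans f g c w i.succ j) := by
    rw [← hspan, Submodule.map_span, ← Set.range_comp]
    refine le_antisymm (Submodule.span_le.2 ?_) (Submodule.span_mono ?_)
    · rintro _ ⟨j, rfl⟩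
      by_cases h : (c j).val ≤ i.val
      · exact Submodule.subset_span ⟨⟨j, h⟩, (f_trans_of_le f g c w i j h).symm⟩
      · rw [Function.comp_apply, f_trans_of_lt hs c w i j (not_le.1 h), hs0, zero_smul]
        exact zero_mem _
    · rintro _ ⟨⟨j, h⟩, rfl⟩
      exact ⟨j, f_trans_of_le f g c w i j h⟩
  rw [h]
  exact finrank_span_eq_card ((linearIndependent_trans hdim hspan i.succ).comp _ Subtype.val_injective)

end Groth.Agent.LinkGr
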