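import Groth.Agent.LinkGr.ChartScheme
import Groth.Agent.LinkGr.Field
import Mathlib.RingTheory.Localization.AtPrime.Basic
import Mathlib.Algebra.Polynomial.AlgebraMap

/-!
Exact points and their deformations on a linked Grassmannian.
-/

set_option autoImplicit false
set_option backward.isDefEq.respectTransparency false
universe u

open CategoryTheory AlgebraicGeometry TopologicalSpace
open scoped TensorProduct
open Groth.Agent.Grass5 (bc bc_smul bc_baseChange pt ptMap map_eq_span span_bc_span)

noncomputable section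

namespace Groth.Agent.LinkGr

variable {R : Type u} [CommRing R] {d r n : ℕ}
variable {f g : Fin n → ((Fin d → R) →ₗ[R] (Fin d → R))} {s : R}
variable {X : Over (Spec (CommRingCat.of R))}
variable {e : ∀ A : CommAlgCat.{u} R, (pt A ⟶ X) ≃ W4c1limliniiii.LGPoints R d r n f g A}

/-- The image of a field valued point. -/
def img {K : Type u} [Field K] [Algebra R K] (x : pt (CommAlgCat.of R K) ⟶ X) : X.left :=
  x.left.base (IsLocalRing.closedPoint K)

theorem range_eq_img {K : Type u} [Field K] [Algebra R K] (x : pt (CommAlgCat.of R K) ⟶ X) :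
    Set.range x.left.base = {img x} := by
  haveI : Unique (PrimeSpectrum K) := inferInstance
  ext z
  constructor
  · rintro ⟨p, rfl⟩
    rw [Set.mem_singleton_iff, img]
    exact congrArg x.left.base (Subsingleton.elim (α := PrimeSpectrum K) p _)
  · rintro rfl
    exact ⟨_, rfl⟩

theorem img_mem_iff (he : IsNatRep e) (D : ChartData d r n) {K : Type u} [Field K] [Algebra R K]
    (x : pt (CommAlgCat.of R K) ⟶ X) : img x ∈ chartOpen D he ↔ Cond D f g (e _ x).1 := by
  rw [cond_iff_range_subset D he, range_eq_img, Set.singleton_subset_iff]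
  rfl

theorem finrank_point {K : Type u} [Field K] [Algebra R K] (hrd : r ≤ d)
    (V : Module.Grassmannian K (K ⊗[R] (Fin d → R)) (d - r)) : Module.finrank K V.toSubmodule = r := by
  obtain ⟨h1, h2, h3⟩ := point_facts hrd V
  have : Module.Free K V.toSubmodule := free_sub K _
  have h := h3 ⟨⊥, Ideal.isPrime_bot⟩
  rwa [Module.rankAtStalk_eq_finrank_of_free] at h

theorem det_ne_zero_of_span {K : Type u} [Field K] [Algebra R K] (D : ChartData d r n) (l : Fin (n + 1))
    {u v : Fin r → K ⊗[R] (Fin d → R)} (hv : ∀ j, v j ∈ Submodule.span K (Set.range u))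
    (hd : IsUnit (mat D l v).det) : IsUnit (mat D l u).det := by
  choose N hN using fun j => (Submodule.mem_span_range_iff_exists_fun K).1 (hv j)
  have h : mat D l v = mat D l u * Matrix.of fun k j => N j k := by
    ext i j
    have := congrFun (proj_sum D l u (N j)) i
    rw [hN] at this
    rw [Matrix.mul_apply]
    exact this
  rw [h, Matrix.det_mul] at hd
  exact isUnit_of_mul_isUnit_left hd

theorem exact_of_cond (hs : IsLinked f g s) (hrd : r ≤ d) {K : Type u} [Field K] [Algebra R K]
    {V : Fin (n + 1) → Module.Grassmannian K (K ⊗[R] (Fin d → R)) (d - r)}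
    (hV : V ∈ W4c1limliniiii.LGPoints R d r n f g K) {D : ChartData d r n} (hc : Cond D f g V) :
    W4c1limliniiii.IsExact R d r n f g K V := by
  obtain ⟨w, hw⟩ := hc
  exact fun i => exact_of_span hs (V := fun l => (V l).toSubmodule) (fun l => finrank_point hrd _)
    (fun l => (hw.span_eq D hV l).symm) i

theorem finrank_map_of_cond (hs : IsLinked f g s) (hrd : r ≤ d) {K : Type u} [Field K] [Algebra R K]
    (hs0 : algebraMap R K s = 0)
    {V : Fin (n + 1) → Module.Grassmannian K (K ⊗[R] (Fin d → R)) (d - r)}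
    (hV : V ∈ W4c1limliniiii.LGPoints R d r n f g K) {D : ChartData d r n} (hc : Cond D f g V) (i : Fin n) :
    Module.finrank K (Submodule.map ((f i).baseChange K) (V i.castSucc).toSubmodule) =
      Fintype.card {j : Fin r // (D.c j).val ≤ i.val} := by
  obtain ⟨w, hw⟩ := hc
  exact finrank_map_eq_card hs hs0 (V := fun l => (V l).toSubmodule) (fun l => finrank_point hrd _)
    (fun l => (hw.span_eq D hV l).symm) i

theorem exists_cond_of_ne_zero (hs : IsLinked f g s) (hrd : r ≤ d) {K : Type u} [Field K] [Algebra R K]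
    (hs0 : algebraMap R K s ≠ 0)
    {V : Fin (n + 1) → Module.Grassmannian K (K ⊗[R] (Fin d → R)) (d - r)}
    (hV : V ∈ W4c1limliniiii.LGPoints R d r n f g K) : ∃ D, Cond D f g V := by
  classical
  have hrows : ∀ l, ∃ (σ : Fin r → Fin d) (v : Fin r → K ⊗[R] (Fin d → R)), Function.Injective σ ∧
      (∀ j, v j ∈ (V l).toSubmodule) ∧ IsUnit (Matrix.of fun i j => crd K (v j) (σ i)).det := fun l =>
    exists_rows (crd K (R := R) (d := d)) (finrank_point hrd (V l))
  choose σ v hσ hv hdet using hrows
  let D : ChartData d r n := ⟨fun _ => 0, σ, id, hσ⟩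
  let w : Fin r → K ⊗[R] (Fin d → R) := fun a => ∑ j, (mat D 0 (v 0))⁻¹ j a • v 0 j
  have hd0 : IsUnit (mat D 0 (v 0)).det := hdet 0
  have hwV : ∀ j, w j ∈ (V 0).toSubmodule := fun j => sum_mem fun k _ => Submodule.smul_mem _ _ (hv 0 k)
  have hwn : ∀ j, proj K D 0 (w j) = Pi.single j 1 := fun j => by
    ext i
    have := congrFun (congrFun (Matrix.mul_nonsing_inv _ hd0) i) j
    rw [Matrix.one_apply] at this
    rw [Pi.single_apply, ← this]
    simp [w, Matrix.mul_apply, mat, mul_comm]
  have hli : ∀ l : Fin (n + 1), LinearIndependent K (trans f g D.c w l) := by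
    intro l
    induction l using Fin.induction with
    | zero =>
      rw [Fintype.linearIndependent_iff]
      intro a ha i
      have h := congrArg (fun z => proj K D 0 z i) ha
      simpa [trans, D, T_self, map_sum, hwn, Pi.single_apply] using h
    | succ i ih =>
      rw [Fintype.linearIndependent_iff] at ih ⊢
      intro a ha j
      have h0 : ∑ k, (a k * algebraMap R K s) • trans f g D.c w i.castSucc k = 0 := by
        refine Eq.trans ?_ ((congrArg ((g i).baseChange K) ha).trans (map_zero _))
        rw [map_sum]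
        refine Finset.sum_congr rfl fun k _ => ?_
        rw [map_smul, mul_smul, g_trans_of_le hs D.c w i k (Nat.zero_le _)]
      exact (mul_eq_zero.1 (ih _ h0 j)).resolve_right hs0
  refine ⟨D, w, hwV, hwn, fun l => det_ne_zero_of_span D l (fun j => ?_) (hdet l)⟩
  have h : Submodule.span K (Set.range (trans f g D.c w l)) = (V l).toSubmodule := by
    refine Submodule.eq_of_le_of_finrank_le (Submodule.span_le.2 ?_) ?_
    · rintro _ ⟨k, rfl⟩
      exact trans_mem_point D hV hwV l k
    · rw [finrank_point hrd, finrank_span_eq_card (hli l), Fintype.card_fin]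
  rw [h]
  exact hv l j

theorem exists_cond_of_exact (hs : IsLinked f g s) (hrd : r ≤ d) {K : Type u} [Field K] [Algebra R K]
    (h : Hyp f g K) {V : Fin (n + 1) → Module.Grassmannian K (K ⊗[R] (Fin d → R)) (d - r)}
    (hV : V ∈ W4c1limliniiii.LGPoints R d r n f g K) (hex : W4c1limliniiii.IsExact R d r n f g K V) :
    ∃ D, Cond D f g V := by
  by_cases hs0 : algebraMap R K s = 0
  swap
  · exact exists_cond_of_ne_zero hs hrd hs0 hV
  obtain ⟨Q⟩ := nonempty_decomp h hs hs0 (V := fun l => (V l).toSubmodule) hV (fun l => finrank_point hrd _)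
  have hP : IsEmpty Q.P := Q.exact_iff hex
  have hcard : Fintype.card Q.W = r := by
    have := Q.card
    rwa [Fintype.card_eq_zero (α := Q.P), add_zero] at this
  let ε : Fin r ≃ Q.W := ((Fintype.equivFin Q.W).trans (finCongr hcard)).symm
  let D : ChartData d r n := ⟨fun j => Q.cW (ε j), Q.σ, fun j => Q.aW (ε j), Q.σ_inj⟩
  refine ⟨D, fun j => Q.w (ε j), fun j => Q.w_mem _, fun j => ?_, fun l => ?_⟩
  · ext i
    rw [Pi.single_apply]
    exact Q.w_norm _ _
  · obtain ⟨v, hv, hd⟩ := Q.vec l
    refine det_ne_zero_of_span D l (v := v) (fun j => ?_) hd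
    have h1 := hv j
    rw [← Q.span l] at h1
    refine Submodule.span_mono ?_ h1
    rintro _ ⟨(k | p), rfl⟩
    · exact ⟨ε.symm k, by simp [trans, fam, D]⟩
    · exact hP.elim p

theorem bc_fam {A C : Type u} [CommRing A] [Algebra R A] [CommRing C] [Algebra R C] (φ : A →ₐ[R] C) {W P : Type}
    (cW : W → Fin (n + 1)) (w : W → A ⊗[R] (Fin d → R)) (ed : P → Fin n) (xx yy : P → A ⊗[R] (Fin d → R))
    (l : Fin (n + 1)) (j : W ⊕ P) :
    bc φ (fam f g cW w ed xx yy l j) =
      fam f g cW (fun k => bc φ (w k)) ed (fun p => bc φ (xx p)) (fun p => bc φ (yy p)) l j := by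
  rcases j with k | p
  · exact bc_baseChange φ _ _
  · simp only [fam, Sum.elim_inr]
    split_ifs <;> exact bc_baseChange φ _ _

/-- The local ring of the affine line at the origin. -/
abbrev lineOrigin (K : Type u) [Field K] : Ideal (Polynomial K) :=
  RingHom.ker ((Polynomial.aeval (0 : K) : Polynomial K →ₐ[K] K) : Polynomial K →+* K)

instance lineOrigin_prime (K : Type u) [Field K] : (lineOrigin K).IsPrime := RingHom.ker_isPrime _

theorem specialization_aux (he : IsNatRep e) (hs : IsLinked f g s) (hrd : r ≤ d) {K : Type u} [Field K]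
    [Algebra R K] (h : Hyp f g K) (hs0 : algebraMap R K s = 0) (x : pt (CommAlgCat.of R K) ⟶ X)
    (Q : Decomp f g r fun l => ((e _ x).1 l).toSubmodule) (b : Bool)
    {L : Type u} [CommRing L] [IsDomain L] [IsLocalRing L] [Algebra R L] (ι : K →ₐ[R] L) (ev : L →ₐ[R] K)
    (hevι : ∀ z : K ⊗[R] (Fin d → R), bc ev (bc ι z) = z) (t : L) (ht : ev t = 0) (ht0 : t ≠ 0)
    (hloc : ∀ z : L, ev z ≠ 0 → IsUnit z) :
    ∃ (D : ChartData d r n) (η : X.left), η ∈ chartOpen D he ∧ η ⤳ img x ∧
      ∀ i : Fin n, Fintype.card {j : Fin r // (D.c j).val ≤ i.val} =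
        Fintype.card {k // (Q.cW k).val ≤ i.val} +
          Fintype.card {p // (if b then (Q.ed p).val + 1 else (Q.ed p).val) ≤ i.val} := by
  classical
  -- the deformed pairs
  have hy' : ∀ p, ∃ z, (g (Q.ed p)).baseChange K z = Q.y p := fun p => by
    have : Q.y p ∈ LinearMap.range ((g (Q.ed p)).baseChange K) := by
      rw [h.range_g_eq hs hs0]; exact Q.fy p
    exact this
  have hx' : ∀ p, ∃ z, (f (Q.ed p)).baseChange K z = Q.x p := fun p => by
    have : Q.x p ∈ LinearMap.range ((f (Q.ed p)).baseChange K) := by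
      rw [h.range_f_eq hs hs0]; exact Q.gx p
    exact this
  choose y' hy' using hy'
  choose x' hx' using hx'
  let xx : Q.P → L ⊗[R] (Fin d → R) := fun p => if b then bc ι (Q.x p) + t • bc ι (y' p) else bc ι (Q.x p)
  let yy : Q.P → L ⊗[R] (Fin d → R) := fun p => if b then bc ι (Q.y p) else bc ι (Q.y p) + t • bc ι (x' p)
  have hxx : ∀ p, bc ev (xx p) = Q.x p := fun p => by
    cases b <;> simp [xx, bc_smul, ht, hevι]
  have hyy : ∀ p, bc ev (yy p) = Q.y p := fun p => by
    cases b <;> simp [yy, bc_smul, ht, hevι]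
  have hs0L : algebraMap R L s = 0 := by rw [← ι.commutes, hs0, map_zero]
  have hF : ∀ p, (f (Q.ed p)).baseChange L (yy p) = (if b then 0 else t) • xx p := fun p => by
    cases b
    · simp only [yy, xx, Bool.false_eq_true, if_false, map_add, map_smul, ← bc_baseChange, Q.fy, hx', map_zero,
        zero_add]
    · simp only [yy, if_true, ← bc_baseChange, Q.fy, map_zero, zero_smul]
  have hG : ∀ p, (g (Q.ed p)).baseChange L (xx p) = (if b then t else 0) • yy p := fun p => by
    cases b
    · simp only [xx, Bool.false_eq_true, if_false, ← bc_baseChange, Q.gx, map_zero, zero_smul]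
    · simp only [yy, xx, if_true, map_add, map_smul, ← bc_baseChange, Q.gx, hy', map_zero, zero_add]
  let wL : Q.W → L ⊗[R] (Fin d → R) := fun k => bc ι (Q.w k)
  let ε : Fin r ≃ Q.W ⊕ Q.P :=
    ((Fintype.equivFin (Q.W ⊕ Q.P)).trans (finCongr (by rw [Fintype.card_sum]; exact Q.card))).symm
  let D₀ : ChartData d r n := ⟨fun _ => 0, Q.σ, id, Q.σ_inj⟩
  let u : Fin (n + 1) → Fin r → L ⊗[R] (Fin d → R) := fun l j => fam f g Q.cW wL Q.ed xx yy l (ε j)
  have hrange : ∀ l, Set.range (u l) = Set.range (fam f g Q.cW wL Q.ed xx yy l) := fun l => ε.surjective.range_comp _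
  have hfam0 : ∀ l j, bc ev (fam f g Q.cW wL Q.ed xx yy l j) = fam f g Q.cW Q.w Q.ed Q.x Q.y l j := fun l j => by
    rw [bc_fam]
    simp only [hxx, hyy, wL, hevι]
  have hdet : ∀ l, IsUnit (mat D₀ l (u l)).det := fun l => by
    refine hloc _ (IsUnit.ne_zero ?_)
    rw [← det_mat_bc]
    obtain ⟨v, hv, hd⟩ := Q.vec l
    refine det_ne_zero_of_span D₀ l (v := v) (fun j => ?_) hd
    have h1 := hv j
    rw [← Q.span l] at h1
    refine Submodule.span_mono ?_ h1
    rintro _ ⟨k, rfl⟩
    exact ⟨ε.symm k, by simp [u, hfam0]⟩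
  let VL : Fin (n + 1) → Module.Grassmannian L (L ⊗[R] (Fin d → R)) (d - r) := fun l => spanPoint D₀ l (u l) (hdet l)
  have hVL : VL ∈ W4c1limliniiii.LGPoints R d r n f g L := fun i => by
    simp only [VL, spanPoint_toSubmodule, hrange]
    exact map_span_fam_le hs hs0L Q.cW wL Q.ed xx yy _ _ hF hG i
  let xL : pt (CommAlgCat.of R L) ⟶ X := (e _).symm ⟨VL, hVL⟩
  have hxL : (e _ xL).1 = VL := congrArg Subtype.val ((e _).apply_symm_apply _)
  have hclosed : ptMap (CommAlgCat.ofHom ev) ≫ xL = x := by
    refine (e _).injective (Subtype.ext ?_)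
    rw [he.map, hxL]
    funext l
    refine Module.Grassmannian.ext ?_
    rw [map_eq_span, spanPoint_toSubmodule, span_bc_span, ← Set.range_comp, ← Q.span l]
    congr 1
    rw [← ε.surjective.range_comp (fam f g Q.cW Q.w Q.ed Q.x Q.y l)]
    exact congrArg Set.range (funext fun j => hfam0 l (ε j))
  -- the generic point of the deformation
  let F := FractionRing L
  let gn : L →ₐ[R] F := IsScalarTower.toAlgHom R L F
  have hgn : Function.Injective gn := IsFractionRing.injective L F
  let xF : pt (CommAlgCat.of R F) ⟶ X := ptMap (CommAlgCat.ofHom gn) ≫ xL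
  let tF : F := gn t
  have htF : tF ≠ 0 := (map_ne_zero_iff _ hgn).2 ht0
  let c : Fin r → Fin (n + 1) := fun j =>
    Sum.elim Q.cW (fun p => if b then (Q.ed p).succ else (Q.ed p).castSucc) (ε j)
  let w : Fin r → F ⊗[R] (Fin d → R) := fun j =>
    bc gn (Sum.elim wL (fun p => if b then xx p else yy p) (ε j))
  let VF : Fin (n + 1) → Module.Grassmannian F (F ⊗[R] (Fin d → R)) (d - r) := (e _ xF).1
  have hVF : ∀ l, (VF l).toSubmodule =
      Submodule.span F (Set.range fun j => fam f g Q.cW (fun k => bc gn (wL k)) Q.ed (fun p => bc gn (xx p))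
        (fun p => bc gn (yy p)) l (ε j)) := fun l => by
    have h1 : VF l = Module.Grassmannian.map gn (VL l) := by
      show (e _ xF).1 l = _
      rw [he.map, hxL]
      rfl
    rw [h1, map_eq_span, spanPoint_toSubmodule, span_bc_span, ← Set.range_comp]
    congr 1
    exact congrArg Set.range (funext fun j => bc_fam gn _ _ _ _ _ l (ε j))
  have hspan : ∀ l, Submodule.span F (Set.range (trans f g c w l)) = (VF l).toSubmodule := fun l => by
    let q : Fin r → F := fun j =>
      Sum.elim (fun _ => (1 : F))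
        (fun p => if b then (if l.val ≤ (Q.ed p).val then tF else 1)
          else (if l.val ≤ (Q.ed p).val then 1 else tF)) (ε j)
    have hq : ∀ j, q j ≠ 0 := fun j => by
      simp only [q]
      rcases ε j with k | p
      · simp
      · simp only [Sum.elim_inr]
        split_ifs <;> first | exact htF | exact one_ne_zero
    have hqu : ∀ j, trans f g c w l j = q j • fam f g Q.cW (fun k => bc gn (wL k)) Q.ed (fun p => bc gn (xx p))
        (fun p => bc gn (yy p)) l (ε j) := fun j => by
      simp only [trans, c, w, q]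
      rcases ε j with k | p
      · simp [fam]
      · simp only [Sum.elim_inr, fam]
        cases b
        · simp only [Bool.false_eq_true, if_false, Fin.val_castSucc]
          split_ifs with hl
          · rw [one_smul]
          · rw [T_succ_left_of_le f g (Q.ed p) rfl l.val (by omega) (by omega), LinearMap.baseChange_comp,
              LinearMap.comp_apply, ← bc_baseChange, hF]
            simp [bc_smul, tF]
        · simp only [if_true, Fin.val_succ]
          split_ifs with hl
          · rw [T_pred_left_of_le f g (Q.ed p) l.val hl, LinearMap.baseChange_comp,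
              LinearMap.comp_apply, ← bc_baseChange, hG]
            simp [bc_smul, tF]
          · rw [one_smul]
    rw [hVF]
    refine le_antisymm (Submodule.span_le.2 ?_) (Submodule.span_le.2 ?_)
    · rintro _ ⟨j, rfl⟩
      rw [hqu]
      exact Submodule.smul_mem _ _ (Submodule.subset_span ⟨j, rfl⟩)
    · rintro _ ⟨j, rfl⟩
      exact (Submodule.smul_mem_iff _ (hq j)).1 (hqu j ▸ Submodule.subset_span ⟨j, rfl⟩)
  have hs0F : algebraMap R F s = 0 := by rw [← gn.commutes, hs0L, map_zero]
  have hdimF : ∀ l, Module.finrank F (VF l).toSubmodule = r := fun l => finrank_point hrd _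
  have hexF : W4c1limliniiii.IsExact R d r n f g F VF := fun i =>
    exact_of_span hs (V := fun l => (VF l).toSubmodule) hdimF hspan i
  obtain ⟨D, hD⟩ := exists_cond_of_exact hs hrd (h.map (gn.comp ι)) (e _ xF).2 hexF
  refine ⟨D, img xF, (img_mem_iff he D xF).2 hD, ?_, fun i => ?_⟩
  · rw [← hclosed]
    show xL.left.base _ ⤳ xL.left.base _
    refine Specializes.map ?_ xL.left.continuous
    have hcl : (Spec.map (CommRingCat.ofHom ev.toRingHom)).base (IsLocalRing.closedPoint K) =
        IsLocalRing.closedPoint L := by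
      refine PrimeSpectrum.ext (Ideal.ext fun z => ?_)
      show ev z ∈ IsLocalRing.maximalIdeal K ↔ z ∈ IsLocalRing.maximalIdeal L
      rw [IsLocalRing.maximalIdeal_eq_bot, Ideal.mem_bot, IsLocalRing.mem_maximalIdeal]
      exact ⟨fun h0 hu => (hu.map ev).ne_zero h0, fun hu => by_contra fun h0 => hu (hloc z h0)⟩
    show _ ⤳ (Spec.map (CommRingCat.ofHom ev.toRingHom)).base (IsLocalRing.closedPoint K)
    rw [hcl]
    exact IsLocalRing.specializes_closedPoint _
  · rw [← finrank_map_of_cond hs hrd hs0F (e _ xF).2 hD i,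
      finrank_map_eq_card hs hs0F (V := fun l => (VF l).toSubmodule) hdimF hspan i, ← Fintype.card_sum]
    refine Fintype.card_congr ?_
    refine (ε.subtypeEquiv (q := fun k => (Sum.elim Q.cW
      (fun p => if b then (Q.ed p).succ else (Q.ed p).castSucc) k).val ≤ i.val) fun j => Iff.rfl).trans ?_
    refine Equiv.subtypeSum.trans (Equiv.sumCongr (Equiv.subtypeEquivRight fun k => Iff.rfl)
      (Equiv.subtypeEquivRight fun p => ?_))
    cases b <;> simp

theorem exists_specialization (he : IsNatRep e) (hs : IsLinked f g s) (hrd : r ≤ d) {K : Type u} [Field K]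
    [Algebra R K] (h : Hyp f g K) (hs0 : algebraMap R K s = 0) (x : pt (CommAlgCat.of R K) ⟶ X)
    (Q : Decomp f g r fun l => ((e _ x).1 l).toSubmodule) (b : Bool) :
    ∃ (D : ChartData d r n) (η : X.left), η ∈ chartOpen D he ∧ η ⤳ img x ∧
      ∀ i : Fin n, Fintype.card {j : Fin r // (D.c j).val ≤ i.val} =
        Fintype.card {k // (Q.cW k).val ≤ i.val} +
          Fintype.card {p // (if b then (Q.ed p).val + 1 else (Q.ed p).val) ≤ i.val} := by
  classical
  let L := Localization.AtPrime (lineOrigin K)
  let ev : L →ₐ[R] K := IsLocalization.liftAlgHom (M := (lineOrigin K).primeCompl)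
    (f := (Polynomial.aeval (0 : K) : Polynomial K →ₐ[K] K).restrictScalars R) fun a => isUnit_iff_ne_zero.2 a.2
  have hev : ∀ p : Polynomial K, ev (algebraMap (Polynomial K) L p) = Polynomial.aeval (0 : K) p := fun p =>
    IsLocalization.lift_eq _ p
  have hloc : ∀ z : L, ev z ≠ 0 → IsUnit z := fun z hz => by
    obtain ⟨p, q, rfl⟩ := IsLocalization.exists_mk'_eq (lineOrigin K).primeCompl z
    rw [IsLocalization.AtPrime.isUnit_mk'_iff]
    intro hp
    refine hz ?_
    have h1 := congrArg ev (IsLocalization.mk'_spec L p q)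
    rw [map_mul, hev, hev, show Polynomial.aeval (0 : K) p = 0 from hp] at h1
    exact (mul_eq_zero.1 h1).resolve_right q.2
  let ι : K →ₐ[R] L := IsScalarTower.toAlgHom R K L
  have hevι : ∀ z : K ⊗[R] (Fin d → R), bc ev (bc ι z) = z := fun z => by
    rw [bc_bc]
    induction z using TensorProduct.induction_on with
    | zero => simp
    | tmul a m =>
      have : ev (ι a) = a := by
        show ev (algebraMap K L a) = a
        rw [IsScalarTower.algebraMap_apply K (Polynomial K) L, hev]
        simp
      simp [this]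
    | add a c ha hc => simp [ha, hc]
  let t : L := algebraMap (Polynomial K) L Polynomial.X
  have ht : ev t = 0 := by simp [t, hev]
  have ht0 : t ≠ 0 := fun h0 => Polynomial.X_ne_zero
    (IsLocalization.injective L (lineOrigin K).primeCompl_le_nonZeroDivisors (h0.trans (map_zero _).symm))
  exact specialization_aux he hs hrd h hs0 x Q b ι ev hevι t ht ht0 hloc

theorem exists_point_field (z : X.left) :
    ∃ (K : Type u) (_ : Field K) (_ : Algebra R K) (x : pt (CommAlgCat.of R K) ⟶ X), img x = z := by
  let K : Type u := X.left.residueField z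
  letI : Algebra R K := (Spec.preimage (X.left.fromSpecResidueField z ≫ X.hom)).hom.toAlgebra
  let x : pt (CommAlgCat.of R K) ⟶ X := Over.homMk (X.left.fromSpecResidueField z)
    (Grass5.algOf_specMap X (X.left.fromSpecResidueField z)).symm
  exact ⟨K, inferInstance, inferInstance, x, Scheme.fromSpecResidueField_apply _ _⟩

/-- Every point is a specialisation of a point lying in a chart. -/
theorem exists_chart_generalization (he : IsNatRep e) (hs : IsLinked f g s) (hrd : r ≤ d)
    (hyp : ∀ (K : Type u) [Field K] [Algebra R K], Hyp f g K) (z : X.left) :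
    ∃ (D : ChartData d r n) (η : X.left), η ∈ chartOpen D he ∧ η ⤳ z := by
  obtain ⟨K, _, _, x, rfl⟩ := exists_point_field z
  by_cases hs0 : algebraMap R K s = 0
  · obtain ⟨Q⟩ := nonempty_decomp (hyp K) hs hs0 (V := fun l => ((e _ x).1 l).toSubmodule) (e _ x).2
      (fun l => finrank_point hrd _)
    obtain ⟨D, η, h1, h2, -⟩ := exists_specialization he hs hrd (hyp K) hs0 x Q true
    exact ⟨D, η, h1, h2⟩
  · obtain ⟨D, hD⟩ := exists_cond_of_ne_zero hs hrd hs0 (e _ x).2
    exact ⟨D, _, (img_mem_iff he D x).2 hD, specializes_rfl⟩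

/-- A point that is not exact is a specialisation of points of two charts of different type. -/
theorem exists_two_generalizations (he : IsNatRep e) (hs : IsLinked f g s) (hrd : r ≤ d) {K : Type u} [Field K]
    [Algebra R K] (h : Hyp f g K) (x : pt (CommAlgCat.of R K) ⟶ X)
    (hne : ¬ W4c1limliniiii.IsExact R d r n f g K (e _ x).1) :
    algebraMap R K s = 0 ∧ ∃ (D₁ D₂ : ChartData d r n) (η₁ η₂ : X.left) (i : Fin n),
      η₁ ∈ chartOpen D₁ he ∧ η₂ ∈ chartOpen D₂ he ∧ η₁ ⤳ img x ∧ η₂ ⤳ img x ∧
      Fintype.card {j : Fin r // (D₁.c j).val ≤ i.val} ≠ Fintype.card {j : Fin r // (D₂.c j).val ≤ i.val} := by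
  classical
  have hs0 : algebraMap R K s = 0 := by
    by_contra hs0
    obtain ⟨D, hD⟩ := exists_cond_of_ne_zero hs hrd hs0 (e _ x).2
    exact hne (exact_of_cond hs hrd (e _ x).2 hD)
  refine ⟨hs0, ?_⟩
  obtain ⟨Q⟩ := nonempty_decomp h hs hs0 (V := fun l => ((e _ x).1 l).toSubmodule) (e _ x).2
    (fun l => finrank_point hrd _)
  have hP : Nonempty Q.P := by
    by_contra hP
    rw [not_nonempty_iff] at hP
    have hcard : Fintype.card Q.W = r := by
      have := Q.card
      rwa [Fintype.card_eq_zero (α := Q.P), add_zero] at this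
    let ε : Fin r ≃ Q.W := ((Fintype.equivFin Q.W).trans (finCongr hcard)).symm
    refine hne fun i => exact_of_span hs (V := fun l => ((e _ x).1 l).toSubmodule) (fun l => finrank_point hrd _)
      (c := fun j => Q.cW (ε j)) (w := fun j => Q.w (ε j)) (fun l => ?_) i
    rw [← Q.span l]
    refine congrArg _ (Set.Subset.antisymm ?_ ?_)
    · rintro _ ⟨j, rfl⟩
      exact ⟨Sum.inl (ε j), rfl⟩
    · rintro _ ⟨(k | p), rfl⟩
      · exact ⟨ε.symm k, by simp [trans, fam]⟩
      · exact hP.elim p
  obtain ⟨p₀⟩ := hP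
  obtain ⟨D₁, η₁, a₁, b₁, c₁⟩ := exists_specialization he hs hrd h hs0 x Q true
  obtain ⟨D₂, η₂, a₂, b₂, c₂⟩ := exists_specialization he hs hrd h hs0 x Q false
  refine ⟨D₁, D₂, η₁, η₂, Q.ed p₀, a₁, a₂, b₁, b₂, ?_⟩
  rw [c₁, c₂]
  simp only [if_true, Bool.false_eq_true, if_false, ne_eq, Nat.add_left_cancel_iff]
  refine ne_of_lt (Fintype.card_lt_of_injective_of_notMem
    (fun p => ⟨p.1, by have := p.2; omega⟩) (fun a c hac => Subtype.ext (congrArg Subtype.val hac :))
    (b := ⟨p₀, le_rfl⟩) ?_)
  rintro ⟨⟨p, hp⟩, hp'⟩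
  have : p = p₀ := congrArg Subtype.val hp'
  subst this
  omega

end Groth.Agent.LinkGr
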