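import Groth.Agent.LinkGr.Chart
import Mathlib.LinearAlgebra.FiniteDimensional.Basic
import Mathlib.LinearAlgebra.Basis.VectorSpace
import Mathlib.LinearAlgebra.Matrix.NonsingularInverse

/-!
The rank conditions of a linked Grassmannian over fields.
-/

set_option autoImplicit false
set_option backward.isDefEq.respectTransparency false
universe u

open scoped TensorProduct
open Groth.Agent.Grass5 (bc bc_smul bc_baseChange)

noncomputable section

namespace Groth.Agent.LinkGr

variable {R : Type u} [CommRing R] {d n : ℕ}

/-- The rank of the base change of an endomorphism to a field. -/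
def rk (K : Type u) [Field K] [Algebra R K] (h : (Fin d → R) →ₗ[R] (Fin d → R)) : ℕ :=
  Module.finrank K (LinearMap.range (h.baseChange K))

section Space

variable (K : Type u) [Field K] [Algebra R K]

instance finite_space : Module.Finite K (K ⊗[R] (Fin d → R)) := Module.Finite.equiv (crd K).symm

instance free_sub (p : Submodule K (K ⊗[R] (Fin d → R))) : Module.Free K p := Module.Free.of_divisionRing K p

theorem finrank_space : Module.finrank K (K ⊗[R] (Fin d → R)) = d := by
  rw [(crd K (R := R) (d := d)).finrank_eq, Module.finrank_fin_fun]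

end Space

section Invariance

variable {K L : Type u} [Field K] [Algebra R K] [Field L] [Algebra R L] (φ : K →ₐ[R] L)

theorem linearIndependent_bc {ι : Type*} [Finite ι] {v : ι → K ⊗[R] (Fin d → R)}
    (hv : LinearIndependent K v) : LinearIndependent L fun j => bc φ (v j) := by
  classical
  have := Fintype.ofFinite ι
  rw [Fintype.linearIndependent_iff]
  intro x hx
  let q : (Fin d → K) →ₗ[K] (ι → K) :=
    (LinearMap.exists_leftInverse_of_injective
      ((crd K (R := R) (d := d)).toLinearMap.comp (Fintype.linearCombination K v)) (by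
        refine LinearMap.ker_eq_bot.2 ?_
        exact (crd K).injective.comp (linearIndependent_iff_injective_fintypeLinearCombination.1 hv))).choose
  have hq : ∀ y, q (crd K (Fintype.linearCombination K v y)) = y := fun y => LinearMap.congr_fun
    (LinearMap.exists_leftInverse_of_injective
      ((crd K (R := R) (d := d)).toLinearMap.comp (Fintype.linearCombination K v)) (by
        refine LinearMap.ker_eq_bot.2 ?_
        exact (crd K).injective.comp (linearIndependent_iff_injective_fintypeLinearCombination.1 hv))).choose_spec y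
  intro i
  have h1 : ∑ k, φ (q (Pi.single k 1) i) * crd L (∑ j, x j • bc φ (v j)) k = x i := by
    simp only [map_sum, map_smul, Finset.sum_apply, Pi.smul_apply, smul_eq_mul, crd_bc, Finset.mul_sum]
    rw [Finset.sum_comm]
    have h2 : ∀ j, ∑ k, q (Pi.single k 1) i * crd K (v j) k = if j = i then 1 else 0 := by
      intro j
      have h3 := congrFun (hq (Pi.single j 1)) i
      rw [Fintype.linearCombination_apply_single, one_smul, pi_eq_sum_univ' (crd K (v j)), map_sum,
        Finset.sum_apply] at h3
      rw [Pi.single_apply] at h3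
      simp only [map_smul, Pi.smul_apply, smul_eq_mul] at h3
      rw [show (if j = i then (1 : K) else 0) = if i = j then 1 else 0 by simp [eq_comm]]
      exact (Finset.sum_congr rfl fun k _ => mul_comm _ _).trans h3
    calc ∑ j, ∑ k, φ (q (Pi.single k 1) i) * (x j * φ (crd K (v j) k))
        = ∑ j, x j * φ (∑ k, q (Pi.single k 1) i * crd K (v j) k) := by
          refine Finset.sum_congr rfl fun j _ => ?_
          rw [map_sum, Finset.mul_sum]
          exact Finset.sum_congr rfl fun k _ => by rw [map_mul]; ring
      _ = x i := by simp [h2]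
  rw [hx] at h1
  simpa using h1.symm

theorem rk_eq_of_span {P : Submodule K (K ⊗[R] (Fin d → R))} {Q : Submodule L (L ⊗[R] (Fin d → R))}
    (hPQ : Q = Submodule.span L (bc φ '' (P : Set (K ⊗[R] (Fin d → R))))) :
    Module.finrank L Q = Module.finrank K P := by
  obtain ⟨v, -, hspan, hv⟩ := Submodule.exists_fun_fin_finrank_span_eq K (P : Set (K ⊗[R] (Fin d → R)))
  replace hspan := hspan.trans (Submodule.span_eq P)
  have h1 : Q = Submodule.span L (Set.range fun j => bc φ (v j)) := by
    rw [hPQ]
    conv_lhs => rw [← hspan]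
    rw [Grass5.span_bc_span, ← Set.range_comp]
    rfl
  rw [h1]
  refine (finrank_span_eq_card (linearIndependent_bc φ hv)).trans ((Fintype.card_fin _).trans ?_)
  rw [Submodule.span_eq]

theorem range_baseChange_eq_span (h : (Fin d → R) →ₗ[R] (Fin d → R)) :
    LinearMap.range (h.baseChange L) =
      Submodule.span L (bc φ '' (LinearMap.range (h.baseChange K) : Set (K ⊗[R] (Fin d → R)))) := by
  apply le_antisymm
  · rintro _ ⟨z, rfl⟩
    induction z using TensorProduct.induction_on with
    | zero => simp
    | add a b ha hb => rw [map_add]; exact add_mem ha hb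
    | tmul a m =>
      have h3 : h.baseChange L (a ⊗ₜ[R] m) = a • bc φ (h.baseChange K (1 ⊗ₜ[R] m)) := by
        simp [TensorProduct.smul_tmul']
      rw [h3]
      exact Submodule.smul_mem _ _ (Submodule.subset_span ⟨_, ⟨_, rfl⟩, rfl⟩)
  · rw [Submodule.span_le]
    rintro _ ⟨_, ⟨z, rfl⟩, rfl⟩
    exact ⟨bc φ z, (bc_baseChange φ h z).symm⟩

include φ in
theorem rk_eq (h : (Fin d → R) →ₗ[R] (Fin d → R)) : rk L h = rk K h :=
  rk_eq_of_span φ (range_baseChange_eq_span φ h)

end Invariance

variable (f g : Fin n → ((Fin d → R) →ₗ[R] (Fin d → R)))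

/-- The rank conditions of a linked Grassmannian over a field. -/
structure Hyp (K : Type u) [Field K] [Algebra R K] : Prop where
  rank : ∀ i, d ≤ rk K (f i) + rk K (g i)
  fwd : ∀ i j : Fin n, i.val + 1 = j.val → rk K ((f j).comp (f i)) = rk K (f i)
  bwd : ∀ i j : Fin n, i.val + 1 = j.val → rk K ((g i).comp (g j)) = rk K (g j)

variable {f g}

theorem Hyp.map {K L : Type u} [Field K] [Algebra R K] [Field L] [Algebra R L] (φ : K →ₐ[R] L)
    (h : Hyp f g K) : Hyp f g L where
  rank i := by rw [rk_eq φ, rk_eq φ]; exact h.rank i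
  fwd i j hij := by rw [rk_eq φ, rk_eq φ]; exact h.fwd i j hij
  bwd i j hij := by rw [rk_eq φ, rk_eq φ]; exact h.bwd i j hij

theorem finrank_range_comp_eq_iff {K : Type u} [Field K] {M : Type u} [AddCommGroup M] [Module K M]
    [Module.Finite K M] (a b : M →ₗ[K] M) :
    Module.finrank K (LinearMap.range (b.comp a)) = Module.finrank K (LinearMap.range a) ↔
      LinearMap.range a ⊓ LinearMap.ker b = ⊥ := by
  have h1 := LinearMap.finrank_range_add_finrank_ker (b.domRestrict (LinearMap.range a))
  rw [LinearMap.range_domRestrict, ← LinearMap.range_comp] at h1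
  constructor
  · intro h
    have h2 : Module.finrank K (LinearMap.ker (b.domRestrict (LinearMap.range a))) = 0 := by omega
    rw [Submodule.finrank_eq_zero, LinearMap.ker_domRestrict] at h2
    rw [eq_bot_iff]
    rintro x ⟨hx, hx'⟩
    have : (⟨x, hx⟩ : LinearMap.range a) ∈ Submodule.comap (LinearMap.range a).subtype (LinearMap.ker b) := hx'
    rw [h2, Submodule.mem_bot] at this
    exact congrArg Subtype.val this
  · intro h
    have h2 : LinearMap.ker (b.domRestrict (LinearMap.range a)) = ⊥ := by
      rw [LinearMap.ker_domRestrict, eq_bot_iff]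
      rintro ⟨x, hx⟩ hx'
      have : x ∈ LinearMap.range a ⊓ LinearMap.ker b := ⟨hx, hx'⟩
      rw [h, Submodule.mem_bot] at this
      exact Subtype.ext this
    rw [h2, finrank_bot] at h1
    omega

theorem Hyp.of_statement {K : Type u} [Field K] [Algebra R K]
    (h2 : ∀ i, d ≤ Module.finrank K (LinearMap.range ((f i).baseChange K)) +
      Module.finrank K (LinearMap.range ((g i).baseChange K)))
    (h3 : ∀ i j : Fin n, i.val + 1 = j.val →
      LinearMap.range ((f i).baseChange K) ⊓ LinearMap.ker ((f j).baseChange K) = ⊥ ∧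
        LinearMap.range ((g j).baseChange K) ⊓ LinearMap.ker ((g i).baseChange K) = ⊥) :
    Hyp f g K where
  rank := h2
  fwd i j hij := by
    rw [rk, rk, LinearMap.baseChange_comp]
    exact (finrank_range_comp_eq_iff _ _).2 (h3 i j hij).1
  bwd i j hij := by
    rw [rk, rk, LinearMap.baseChange_comp]
    exact (finrank_range_comp_eq_iff _ _).2 (h3 i j hij).2

theorem rk_self {k : Type u} [Field k] (h : (Fin d → k) →ₗ[k] (Fin d → k)) :
    rk k h = Module.finrank k (LinearMap.range h) := by
  let e : k ⊗[k] (Fin d → k) ≃ₗ[k] (Fin d → k) := TensorProduct.lid k (Fin d → k)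
  have he : h.baseChange k = (e.symm : _ →ₗ[k] _).comp (h.comp (e : _ →ₗ[k] _)) := by
    refine LinearMap.ext fun z => e.injective ?_
    simp only [LinearMap.comp_apply, LinearEquiv.coe_coe, LinearEquiv.apply_symm_apply]
    induction z using TensorProduct.induction_on with
    | zero => simp
    | tmul a m => simp [e]
    | add a b ha hb => simp [ha, hb]
  rw [rk, he, LinearMap.range_comp, LinearEquiv.finrank_map_eq, LinearMap.range_comp, LinearEquiv.range,
    Submodule.map_top]

theorem Hyp.of_field {k : Type u} [Field k] {f g : Fin n → ((Fin d → k) →ₗ[k] (Fin d → k))}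
    (h2 : ∀ i, d ≤ Module.finrank k (LinearMap.range (f i)) + Module.finrank k (LinearMap.range (g i)))
    (h3 : ∀ i j : Fin n, i.val + 1 = j.val →
      LinearMap.range (f i) ⊓ LinearMap.ker (f j) = ⊥ ∧
        LinearMap.range (g j) ⊓ LinearMap.ker (g i) = ⊥) : Hyp f g k where
  rank i := by rw [rk_self, rk_self]; exact h2 i
  fwd i j hij := by rw [rk_self, rk_self]; exact (finrank_range_comp_eq_iff _ _).2 (h3 i j hij).1
  bwd i j hij := by rw [rk_self, rk_self]; exact (finrank_range_comp_eq_iff _ _).2 (h3 i j hij).2

variable {K : Type u} [Field K] [Algebra R K]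

theorem Hyp.inf_fwd (h : Hyp f g K) {i j : Fin n} (hij : i.val + 1 = j.val) :
    LinearMap.range ((f i).baseChange K) ⊓ LinearMap.ker ((f j).baseChange K) = ⊥ := by
  have := h.fwd i j hij
  rw [rk, rk, LinearMap.baseChange_comp] at this
  exact (finrank_range_comp_eq_iff _ _).1 this

theorem Hyp.inf_bwd (h : Hyp f g K) {i j : Fin n} (hij : i.val + 1 = j.val) :
    LinearMap.range ((g j).baseChange K) ⊓ LinearMap.ker ((g i).baseChange K) = ⊥ := by
  have := h.bwd i j hij
  rw [rk, rk, LinearMap.baseChange_comp] at this
  exact (finrank_range_comp_eq_iff _ _).1 this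

theorem range_eq_ker_aux {M : Type u} [AddCommGroup M] [Module K M] [Module.Finite K M] {a b : M →ₗ[K] M}
    (h0 : a.comp b = 0)
    (hr : Module.finrank K M ≤ Module.finrank K (LinearMap.range a) + Module.finrank K (LinearMap.range b)) :
    LinearMap.range b = LinearMap.ker a := by
  refine Submodule.eq_of_le_of_finrank_le ?_ ?_
  · rintro _ ⟨x, rfl⟩
    exact LinearMap.congr_fun h0 x
  · have := LinearMap.finrank_range_add_finrank_ker a
    omega

theorem Hyp.range_g_eq (h : Hyp f g K) {s : R} (hs : IsLinked f g s) (hs0 : algebraMap R K s = 0) (i : Fin n) :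
    LinearMap.range ((g i).baseChange K) = LinearMap.ker ((f i).baseChange K) := by
  refine range_eq_ker_aux ?_ (by rw [finrank_space]; exact h.rank i)
  rw [← LinearMap.baseChange_comp, (hs i).1, LinearMap.baseChange_smul, ← algebraMap_smul K s, hs0, zero_smul]

theorem Hyp.range_f_eq (h : Hyp f g K) {s : R} (hs : IsLinked f g s) (hs0 : algebraMap R K s = 0) (i : Fin n) :
    LinearMap.range ((f i).baseChange K) = LinearMap.ker ((g i).baseChange K) := by
  refine range_eq_ker_aux ?_ (by rw [finrank_space, add_comm]; exact h.rank i)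
  rw [← LinearMap.baseChange_comp, (hs i).2, LinearMap.baseChange_smul, ← algebraMap_smul K s, hs0, zero_smul]

end Groth.Agent.LinkGr
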