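import Groth.Prelude.Def_W4c1limliniiiiLG
import Groth.Agent.Grass5.GrassCond

/-!
Transport of vectors along a linked chain.
-/

set_option autoImplicit false
universe u

open scoped TensorProduct
open Groth.Agent.Grass5 (bc bc_baseChange)

namespace Groth.Agent.LinkGr

variable {R : Type u} [CommRing R] {d n : ℕ} (f g : Fin n → ((Fin d → R) →ₗ[R] (Fin d → R)))

/-- A family of endomorphisms indexed by natural numbers. -/
def ext' (h : Fin n → ((Fin d → R) →ₗ[R] (Fin d → R))) (m : ℕ) : (Fin d → R) →ₗ[R] (Fin d → R) :=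
  if hm : m < n then h ⟨m, hm⟩ else LinearMap.id

theorem ext'_fin (h : Fin n → ((Fin d → R) →ₗ[R] (Fin d → R))) (i : Fin n) : ext' h i.val = h i := by
  simp [ext', i.isLt]

/-- The composite of `m` forward maps from position `c`. -/
def up (c : ℕ) : ℕ → (Fin d → R) →ₗ[R] (Fin d → R)
  | 0 => LinearMap.id
  | m + 1 => (ext' f (c + m)).comp (up c m)

/-- The composite of `m` backward maps from position `c`. -/
def down (c : ℕ) : ℕ → (Fin d → R) →ₗ[R] (Fin d → R)
  | 0 => LinearMap.id
  | m + 1 => (ext' g (c - m - 1)).comp (down c m)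

/-- The transport from position `c` to position `i`. -/
def T (c i : ℕ) : (Fin d → R) →ₗ[R] (Fin d → R) :=
  if c ≤ i then up f c (i - c) else down g c (c - i)

theorem T_self (c : ℕ) : T f g c c = LinearMap.id := by simp [T, up]

theorem T_succ {c : ℕ} (i : Fin n) (h : c ≤ i.val) : T f g c (i.val + 1) = (f i).comp (T f g c i.val) := by
  rw [T, T, if_pos h, if_pos (by omega), show i.val + 1 - c = (i.val - c) + 1 by omega, up,
    show c + (i.val - c) = i.val by omega, ext'_fin]

theorem T_pred {c : ℕ} (i : Fin n) (h : i.val < c) : T f g c i.val = (g i).comp (T f g c (i.val + 1)) := by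
  rcases Nat.lt_or_eq_of_le (Nat.succ_le_of_lt h) with h' | h'
  · rw [T, T, if_neg (by omega), if_neg (by omega), show c - i.val = (c - (i.val + 1)) + 1 by omega, down,
      show c - (c - (i.val + 1)) - 1 = i.val by omega, ext'_fin]
  · have h' : c = i.val + 1 := h'.symm
    subst h'
    rw [T_self, T, if_neg (by omega), show i.val + 1 - i.val = 1 by omega, down, down,
      show i.val + 1 - 0 - 1 = i.val by omega, ext'_fin]

/-- The data of a linked chain: both composites of consecutive maps are multiplication by `s`. -/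
def IsLinked (s : R) : Prop := ∀ i, (f i).comp (g i) = s • LinearMap.id ∧ (g i).comp (f i) = s • LinearMap.id

variable {f g}

theorem f_T_of_lt {s : R} (hs : IsLinked f g s) {c : ℕ} (i : Fin n) (h : i.val < c) :
    (f i).comp (T f g c i.val) = s • T f g c (i.val + 1) := by
  rw [T_pred f g i h, ← LinearMap.comp_assoc, (hs i).1, LinearMap.smul_comp, LinearMap.id_comp]

theorem g_T_of_le {s : R} (hs : IsLinked f g s) {c : ℕ} (i : Fin n) (h : c ≤ i.val) :
    (g i).comp (T f g c (i.val + 1)) = s • T f g c i.val := by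
  rw [T_succ f g i h, ← LinearMap.comp_assoc, (hs i).2, LinearMap.smul_comp, LinearMap.id_comp]

variable (f g) {r : ℕ} {A : Type u} [CommRing A] [Algebra R A]

/-- The transported family at position `i` of vectors `w j` placed at positions `c j`. -/
noncomputable def trans (c : Fin r → Fin (n + 1)) (w : Fin r → A ⊗[R] (Fin d → R)) (i : Fin (n + 1)) (j : Fin r) :
    A ⊗[R] (Fin d → R) :=
  (T f g (c j).val i.val).baseChange A (w j)

theorem trans_self (c : Fin r → Fin (n + 1)) (w : Fin r → A ⊗[R] (Fin d → R)) (j : Fin r) :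
    trans f g c w (c j) j = w j := by
  simp [trans, T_self]

theorem f_trans_of_le (c : Fin r → Fin (n + 1)) (w : Fin r → A ⊗[R] (Fin d → R)) (i : Fin n) (j : Fin r)
    (h : (c j).val ≤ i.val) :
    (f i).baseChange A (trans f g c w i.castSucc j) = trans f g c w i.succ j := by
  simp only [trans, Fin.val_castSucc, Fin.val_succ, T_succ f g i h, LinearMap.baseChange_comp]
  rfl

theorem g_trans_of_lt (c : Fin r → Fin (n + 1)) (w : Fin r → A ⊗[R] (Fin d → R)) (i : Fin n) (j : Fin r)
    (h : i.val < (c j).val) :
    (g i).baseChange A (trans f g c w i.succ j) = trans f g c w i.castSucc j := by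
  simp only [trans, Fin.val_castSucc, Fin.val_succ, T_pred f g i h, LinearMap.baseChange_comp]
  rfl

variable {f g} {s : R}

theorem f_trans_of_lt (hs : IsLinked f g s) (c : Fin r → Fin (n + 1)) (w : Fin r → A ⊗[R] (Fin d → R))
    (i : Fin n) (j : Fin r) (h : i.val < (c j).val) :
    (f i).baseChange A (trans f g c w i.castSucc j) = algebraMap R A s • trans f g c w i.succ j := by
  simp only [trans, Fin.val_castSucc, Fin.val_succ]
  rw [← LinearMap.comp_apply, ← LinearMap.baseChange_comp, f_T_of_lt hs i h, LinearMap.baseChange_smul,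
    LinearMap.smul_apply, algebraMap_smul]

theorem g_trans_of_le (hs : IsLinked f g s) (c : Fin r → Fin (n + 1)) (w : Fin r → A ⊗[R] (Fin d → R))
    (i : Fin n) (j : Fin r) (h : (c j).val ≤ i.val) :
    (g i).baseChange A (trans f g c w i.succ j) = algebraMap R A s • trans f g c w i.castSucc j := by
  simp only [trans, Fin.val_castSucc, Fin.val_succ]
  rw [← LinearMap.comp_apply, ← LinearMap.baseChange_comp, g_T_of_le hs i h, LinearMap.baseChange_smul,
    LinearMap.smul_apply, algebraMap_smul]

/-- The transported families span linked submodules. -/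
theorem map_span_trans_le (hs : IsLinked f g s) (c : Fin r → Fin (n + 1)) (w : Fin r → A ⊗[R] (Fin d → R))
    (i : Fin n) :
    Submodule.map ((f i).baseChange A) (Submodule.span A (Set.range (trans f g c w i.castSucc))) ≤
        Submodule.span A (Set.range (trans f g c w i.succ)) ∧
      Submodule.map ((g i).baseChange A) (Submodule.span A (Set.range (trans f g c w i.succ))) ≤
        Submodule.span A (Set.range (trans f g c w i.castSucc)) := by
  constructor
  · rw [Submodule.map_span_le]
    rintro _ ⟨j, rfl⟩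
    by_cases h : (c j).val ≤ i.val
    · rw [f_trans_of_le f g c w i j h]
      exact Submodule.subset_span ⟨j, rfl⟩
    · rw [f_trans_of_lt hs c w i j (not_le.1 h)]
      exact Submodule.smul_mem _ _ (Submodule.subset_span ⟨j, rfl⟩)
  · rw [Submodule.map_span_le]
    rintro _ ⟨j, rfl⟩
    by_cases h : (c j).val ≤ i.val
    · rw [g_trans_of_le hs c w i j h]
      exact Submodule.smul_mem _ _ (Submodule.subset_span ⟨j, rfl⟩)
    · rw [g_trans_of_lt f g c w i j (not_le.1 h)]
      exact Submodule.subset_span ⟨j, rfl⟩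

theorem T_apply_mem {V : Fin (n + 1) → Submodule A (A ⊗[R] (Fin d → R))}
    (hV : ∀ i : Fin n, Submodule.map ((f i).baseChange A) (V i.castSucc) ≤ V i.succ ∧
      Submodule.map ((g i).baseChange A) (V i.succ) ≤ V i.castSucc)
    {c : Fin (n + 1)} {v : A ⊗[R] (Fin d → R)} (hv : v ∈ V c) :
    ∀ i : Fin (n + 1), (T f g c.val i.val).baseChange A v ∈ V i := by
  suffices H : ∀ (m : ℕ) (i : Fin (n + 1)), (i.val = c.val + m ∨ c.val = i.val + m) →
      (T f g c.val i.val).baseChange A v ∈ V i by
    intro i
    rcases le_total c.val i.val with h | h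
    · exact H (i.val - c.val) i (Or.inl (by omega))
    · exact H (c.val - i.val) i (Or.inr (by omega))
  intro m
  induction m with
  | zero =>
    intro i hi
    obtain rfl : i = c := Fin.ext (by omega)
    simpa [T_self] using hv
  | succ m ih =>
    intro i hi
    rcases hi with h | h
    · obtain ⟨j, hj⟩ : ∃ j : Fin n, j.val = c.val + m := ⟨⟨c.val + m, by omega⟩, rfl⟩
      obtain rfl : i = j.succ := Fin.ext (by simp; omega)
      rw [Fin.val_succ, T_succ f g j (by omega), LinearMap.baseChange_comp]
      exact (hV j).1 ⟨_, ih j.castSucc (Or.inl (by simpa using hj)), rfl⟩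
    · obtain ⟨j, hj⟩ : ∃ j : Fin n, j.val = i.val := ⟨⟨i.val, by omega⟩, rfl⟩
      obtain rfl : i = j.castSucc := Fin.ext (by simp [hj])
      simp only [Fin.val_castSucc] at h ⊢
      rw [T_pred f g j (by omega), LinearMap.baseChange_comp]
      exact (hV j).2 ⟨_, ih j.succ (Or.inr (by simp; omega)), rfl⟩

theorem trans_mem {V : Fin (n + 1) → Submodule A (A ⊗[R] (Fin d → R))}
    (hV : ∀ i : Fin n, Submodule.map ((f i).baseChange A) (V i.castSucc) ≤ V i.succ ∧
      Submodule.map ((g i).baseChange A) (V i.succ) ≤ V i.castSucc)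
    {c : Fin r → Fin (n + 1)} {w : Fin r → A ⊗[R] (Fin d → R)} (hw : ∀ j, w j ∈ V (c j))
    (i : Fin (n + 1)) (j : Fin r) : trans f g c w i j ∈ V i :=
  T_apply_mem hV (hw j) i

theorem trans_map {C : Type u} [CommRing C] [Algebra R C] (φ : A →ₐ[R] C)
    (c : Fin r → Fin (n + 1)) (w : Fin r → A ⊗[R] (Fin d → R)) (i : Fin (n + 1)) (j : Fin r) :
    bc φ (trans f g c w i j) = trans f g c (fun j => bc φ (w j)) i j :=
  bc_baseChange φ _ _

end Groth.Agent.LinkGr
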